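import Cfsg.Agent.Polar.MinU5

/-! Subgroups of unitary groups meeting the unipotent radicals of points regularly. -/

open Module

namespace Cfsg.Agent.Polar

open Cfsg.Agent.Forms

theorem grp_cocycle {G : Type*} [Group G] {a b g k : G} (h : g * k = k * g) :
    a * (g * b * g⁻¹) * (b * (k * a * k⁻¹))⁻¹ = a * g * (b * k) * (b * k * (a * g))⁻¹ :=
  calc _ = a * g * b * (g⁻¹ * k) * a⁻¹ * k⁻¹ * b⁻¹ := by group
    _ = _ := by rw [(Commute.inv_left h).eq]; group

theorem ar_ureg {q k c j i φ a : ℕ} (ha : 0 < a) (hc : 0 < c) (hj : j * 1 = a)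
    (h1 : k * (j * i) < (q + 1) * a) (h2 : c * j * φ < (q + 1) * a) (hq : 2 ≤ q) :
    φ < q + 2 ∧ (i = q → k < 2) := by
  rw [mul_one] at hj
  subst hj
  refine ⟨?_, ?_⟩
  · by_contra hlt
    have : 1 * j * (q + 2) ≤ c * j * φ := by gcongr <;> omega
    nlinarith
  · rintro rfl
    by_contra hlt
    have : 2 * (j * i) ≤ k * (j * i) := by gcongr; omega
    nlinarith

variable {F : Type*} [Field F]
variable {V : Type*} [AddCommGroup V] [Module F V]

namespace PQ

section Gen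
variable {τ : F →+* F} {π : FP F τ} {P : PQ π V}

variable (P) in
/-- `H` is a complement to `U e` in the stabilizer of the point `e`. -/
structure UReg (H : Subgroup P.Iso) (e : V) : Prop where
  eq_one : ∀ u ∈ P.U e, u ∈ H → u = 1
  le : P.Gam e ≤ P.Kc H e

theorem Hyp.mem_span_of_eich_eq_one {e f w : V} (h : P.Hyp e f) {c : F} (hc : P.EOk e w c)
    (h1 : P.eich e w c = 1) : w ∈ F ∙ e := by
  have := hc.eich_smul f
  rw [h1, one_smul, h.pair', add_sub_assoc, left_eq_add, sub_eq_zero] at this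
  rw [← Submodule.smul_mem_iff _ π.eps_ne_zero, this]
  exact Submodule.smul_mem _ _ (Submodule.mem_span_singleton_self e)

theorem Hyp.res {e f x y : V} (h' : P.Hyp x y) (hx : x ∈ P.perp {e, f})
    (hy : y ∈ P.perp {e, f}) : (P.res (P.perp {e, f})).Hyp ⟨x, hx⟩ ⟨y, hy⟩ :=
  ⟨h'.left, h'.right, h'.pair⟩

/-- A vector orthogonal to `e, x` and to the singular vectors orthogonal to two hyperbolic planes
lies in the span of `e, x`. -/
theorem Hyp.exists_sing_perp₂ {e f x y : V} (h : P.Hyp e f) (hP : P.ND) (h' : P.Hyp x y)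
    (hx : x ∈ P.perp {e, f}) (hy : y ∈ P.perp {e, f})
    (hz : ∃ z ∈ (P.res (P.perp {e, f})).perp {⟨x, hx⟩, ⟨y, hy⟩}, z ≠ 0 ∧ (P.res _).Sing z)
    {u : V} (hu : u ∈ P.perp {e, f}) (hux : P.B u x = 0) (hu' : u ∉ F ∙ x) :
    ∃ z ∈ P.perp {e, f}, z ∈ P.perp {x, y} ∧ P.Sing z ∧ P.B u z ≠ 0 := by
  have h1 := h'.res hx hy
  obtain ⟨z, hz1, hz2, hz3⟩ := h1.exists_sing_perp_ne (h.emb.nd hP) hz (h1.hproj_mem ⟨u, hu⟩)
    fun h0 => hu' (Submodule.mem_span_singleton.2 ⟨_, by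
      have := Hyp.eq_of_perp (P := P.res (P.perp {e, f})) (e := ⟨x, hx⟩) (f := ⟨y, hy⟩)
        (w := ⟨u, hu⟩) hux
      rw [h0, zero_add] at this
      exact (congrArg Subtype.val this).symm⟩)
  rw [Hyp.B_hproj_right _ hz1] at hz3
  have := mem_perp_pair.1 hz1
  exact ⟨z, z.2, mem_perp_pair.2 this, hz2, hz3⟩

theorem eich_cocycle {H : Subgroup P.Iso} {e f : V} (h : P.Hyp e f) (hR : P.UReg H e)
    {g k : P.Iso} (hg : g ∈ P.Lv e f) (hk : k ∈ P.Lv e f) (hgk : g * k = k * g) {u u' : V}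
    (hu : u ∈ P.perp {e, f}) (hu' : u' ∈ P.perp {e, f}) {c c' : F} (hc : P.EOk e u c)
    (hc' : P.EOk e u' c') (h1 : P.eich e u c * g ∈ H) (h2 : P.eich e u' c' * k ∈ H) :
    u + g • u' = u' + k • u := by
  have k1 := hc'.conj_eich g
  have k2 := hc.conj_eich k
  have o1 := hc'.act g
  have o2 := hc.act k
  rw [hg.1.1] at k1 o1
  rw [hk.1.1] at k2 o2
  have k3 := hR.eq_one (P.eich e u c * P.eich e (g • u') c' *
    (P.eich e u' c' * P.eich e (k • u) c)⁻¹) (mul_mem (mul_mem (eich_mem_U _ _ _)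
      (eich_mem_U _ _ _)) (inv_mem (mul_mem (eich_mem_U _ _ _) (eich_mem_U _ _ _)))) (by
      rw [← k1, ← k2, grp_cocycle hgk]
      exact mul_mem (mul_mem h1 h2) (inv_mem (mul_mem h2 h1)))
  rw [mul_inv_eq_one, hc.eich_mul o1, hc'.eich_mul o2] at k3
  exact (h.eich_inj (hc.add o1) (mem_perp_pair.1 (add_mem hu (Lv_smul_mem hg hu'))).2 (hc'.add o2)
    (mem_perp_pair.1 (add_mem hu' (Lv_smul_mem hk hu))).2 k3).1

end Gen

section U
variable [Fintype F] {q : ℕ} {hF : Fintype.card F = q ^ 2} {P : PQ (uFP hF) V}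

theorem Hyp.uReg_of_bot [Finite V] {e f : V} (h : P.Hyp e f) (hP : P.ND) {d : ℕ}
    (hd : finrank F V = d + 2) (hd1 : 1 ≤ d) {H : Subgroup P.Iso}
    (hn : H.relIndex (P.Gam e) < (q + 1) * (q ^ d * q ^ d)) (hT : ¬ P.TT H e)
    (hY : h.Yv H = ⊥) : P.UReg H e := by
  have hq := two_le_q hF
  obtain ⟨i, j, φ, hj, -, h1, h2, -, hD⟩ := h.u_local hP hd hd1 hT
  rw [hY, AddSubgroup.card_bot] at hj
  obtain ⟨k1, k2⟩ := ar_ureg (by positivity) (relIndex_pos _ _) hj (h1 ▸ hn)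
    (h2 ▸ hn) hq
  obtain ⟨hD, hi⟩ := hD.resolve_right (by omega)
  refine ⟨fun u hu huH => ?_, Hyp.Gam_le_Kc (k2 hi)⟩
  obtain ⟨w, hw, c, hc, rfl⟩ := h.mem_U_iff.1 hu
  obtain rfl : w = 0 := (AddSubgroup.mem_bot).1 (hY.le ⟨⟨c, hc, huH⟩, hw⟩)
  obtain rfl : c = 0 := (AddSubgroup.mem_bot).1
    (hD.le ⟨(sing_iff_of_QEq hc.val).1 sing_zero, huH⟩)
  exact eich_zero e

theorem u_transvec_add {e x : V} (he : P.Sing e) (hx : P.Sing x) (hxe : P.B x e = 0) (a : F)
    {γ : F} (hγ : γ ∈ (uFP hF).Λ) : P.EOk e ((-(frobq hF a * γ)) • x) (a * frobq hF a * γ) ∧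
      P.eich (a • e + x) 0 γ =
        P.eich e ((-(frobq hF a * γ)) • x) (a * frobq hF a * γ) * P.eich x 0 γ := by
  obtain ⟨k7, k8⟩ := transvec_add (he.smul a) hx (by simp [hxe]) hγ
  have o : P.EOk e _ γ := ⟨he, by simp [hxe], k7.val⟩
  have := o.smul_right (frobq hF a)
  rw [frobq_frobq, mul_comm _ a] at this
  rw [k8, o.eich_smul_left]
  simp only [smul_smul, uFP_eps, one_mul, mul_neg] at this ⊢
  exact ⟨this, trivial⟩

theorem UReg.eq_zero {H : Subgroup P.Iso} {e x : V} (hR : P.UReg H e) (hP : P.ND) (he : P.Sing e)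
    (heT : ¬ P.TT H e) (hx : P.Sing x) (hxe : P.B x e = 0) (hT : P.TT H x) {a : F}
    (hT' : P.TT H (a • e + x)) : a = 0 := by
  by_contra ha
  obtain ⟨f, h⟩ := hP.exists_hyp he (by rintro rfl; exact heT TT.zero)
  obtain ⟨γ, hγ, hγ0⟩ := u_exists_lam hF
  obtain ⟨o, k1⟩ := u_transvec_add he hx hxe a hγ
  have k2 := hT' γ hγ
  rw [k1, mul_mem_cancel_right (hT γ hγ)] at k2
  have k3 := h.mem_span_of_eich_eq_one o (hR.eq_one _ (eich_mem_U _ _ _) k2)
  rw [Submodule.smul_mem_iff _ (neg_ne_zero.2 (mul_ne_zero ((map_ne_zero _).2 ha) hγ0))] at k3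
  obtain ⟨b, rfl⟩ := Submodule.mem_span_singleton.1 k3
  rw [← add_smul] at hT'
  by_cases hb : b = 0
  · exact heT (TT.of_smul he (by rwa [hb, add_zero]) hT')
  · exact heT (TT.of_smul he hb hT)

variable (P) in
/-- All singular points outside the transvection set of `H` are regular. -/
def AllReg (H : Subgroup P.Iso) : Prop := ∀ x, P.Sing x → ¬ P.TT H x → P.UReg H x

theorem AllReg.add {H : Subgroup P.Iso} (hR : P.AllReg H) (hP : P.ND) {x y : V} (hx : P.Sing x)
    (hy : P.Sing y) (hxy : P.Sing (x + y)) (h1 : P.TT H x) (h2 : P.TT H y) : P.TT H (x + y) := by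
  by_cases h0 : P.B x y = 0
  · by_contra hn
    exact one_ne_zero ((hR _ hxy hn).eq_zero hP hxy hn hx.neg (by simp [hx.B_self, h0])
      (by simpa using h1.smul hx (-1)) (a := 1) (by simpa using h2))
  · have hl := neg_mem (lam_inv (u_B_mem_lam hx hy hxy))
    have := h1.act hx (h2 _ hl)
    rw [transvec_smul_vec hy hl] at this
    simpa [h0] using this

theorem AllReg.sub {H : Subgroup P.Iso} (hR : P.AllReg H) (hP : P.ND) {x y : V} (hx : P.Sing x)
    (hy : P.Sing y) (hxy : P.B x y ∈ (uFP hF).Λ) (h1 : P.TT H x) (h2 : P.TT H y) :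
    P.Sing (x - y) ∧ P.TT H (x - y) := by
  have h3 : P.Sing (x + -y) :=
    (sing_iff_of_QEq (QEq.add hx hy.neg)).2 (by simpa using hxy)
  rw [sub_eq_add_neg]
  exact ⟨h3, hR.add hP hx hy.neg h3 h1 (by simpa using h2.smul hy (-1))⟩

variable (P) in
/-- The singular points of some complement of a hyperbolic plane through `e` are centres of
transvection groups in `H`. -/
def Star (H : Subgroup P.Iso) (e : V) : Prop :=
  ∃ f, P.Hyp e f ∧ ∀ y ∈ P.perp {e, f}, P.Sing y → P.TT H y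

theorem UReg.star_of_central [FiniteDimensional F V] {H : Subgroup P.Iso} {e f : V}
    (hR : P.UReg H e) (h : P.Hyp e f) (hP : P.ND) (h5 : 5 ≤ finrank F V) {z : P.Iso}
    (hz : z ∈ P.EG) {t μ : F} (ze : z • e = t • e) (zw : ∀ w ∈ P.perp {e, f}, z • w = μ • w)
    (hμ : μ * frobq hF μ = 1) (htμ : t ≠ μ) : P.Star H e := by
  obtain ⟨f', h', hf'⟩ := h.exists_partner_bot hP (H := H)
    (h.Yv_eq_bot_iff.2 fun w ⟨c, hc, hH⟩ => by
      obtain ⟨a, ha⟩ := Submodule.mem_span_singleton.1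
        (h.mem_span_of_eich_eq_one hc (hR.eq_one _ (eich_mem_U _ _ _) hH))
      exact ⟨a, ha.symm⟩) (hR.le ⟨mem_pst_of_eq h.left_ne_zero ze, hz⟩) ze zw hμ htμ
  refine ⟨f', h', fun y hy hs c hc => ?_⟩
  by_cases hy0 : y = 0
  · rw [hy0]; exact TT.zero c hc
  obtain ⟨b, rfl⟩ := u_hmin c hc
  obtain ⟨l, hl, l', hl', heq⟩ := h'.transvec_eq_comm hP h5 (y := y) ⟨hy, hy0, hs⟩ (b := b)
  obtain ⟨d, hd, h1⟩ := hf' l (hR.le (Lv_le_Gam _ _ hl)) hl.1.1 hl.1.2
  obtain ⟨d', hd', h2⟩ := hf' l' (hR.le (Lv_le_Gam _ _ hl')) hl'.1.1 hl'.1.2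
  rw [heq]
  exact comm_mem_of_transvec h.left hl.1.1 hl'.1.1 hd hd' h1 h2

theorem UReg.star_of_three [FiniteDimensional F V] {H : Subgroup P.Iso} {e f : V}
    (hR : P.UReg H e) (h : P.Hyp e f) (hP : P.ND) (h5 : 5 ≤ finrank F V) (hq : q ≠ 2) :
    P.Star H e := by
  obtain ⟨t, ht, ht0, ht1⟩ := exists_fixed_ne hF hq
  exact hR.star_of_central h hP h5 (z := h.tor (Units.mk0 t ht0)) (u_mem_EG hP (by
    rw [h.det_tor, Units.val_mk0, ht, mul_inv_cancel₀ ht0])) (h.tor_left _) (μ := 1)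
    (fun w hw => by rw [h.tor_of_mem _ hw, one_smul]) (by simp) ht1

omit [Fintype F] in
theorem det_scal {τ : F →+* F} {π : FP F τ} {P : PQ π V} [FiniteDimensional F V] (μ : F)
    (hμ : μ * τ μ = 1) : (P.det (P.scal μ hμ) : F) = μ ^ finrank F V := by
  rw [coe_det, show ((P.scal μ hμ : V ≃ₗ[F] V) : V →ₗ[F] V) = μ • LinearMap.id from rfl,
    LinearMap.det_smul, LinearMap.det_id, mul_one]

theorem UReg.star_of_five {hF : Fintype.card F = 2 ^ 2} {P : PQ (uFP hF) V}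
    [FiniteDimensional F V] {H : Subgroup P.Iso} {e f : V}
    (hR : P.UReg H e) (h : P.Hyp e f) (hP : P.ND) (h5 : finrank F V = 5) : P.Star H e := by
  obtain ⟨μ, hμ, hμ1⟩ := exists_norm_one_sq_ne hF
  have := h.finrank_perp
  exact hR.star_of_central h hP h5.ge (z := h.emb.ext ((P.res _).scal μ hμ)) (u_mem_EG hP (by
    rw [Emb.det_ext, det_scal, show finrank F (P.perp {e, f}) = 3 by omega, ← hμ, frobq_apply]
    ring)) (t := 1) (by rw [h.ext_smul_left, one_smul]) (fun w hw => h.ext_scal μ hμ hw) hμ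
    (by rintro rfl; simp at hμ1)

theorem u_lam_two {hF : Fintype.card F = 2 ^ 2} {c : F} (hc : c ∈ (uFP hF).Λ) : c = 0 ∨ c = 1 := by
  rw [mem_uFP_lam, frobq_apply] at hc
  rcases mul_eq_zero.1 (show c * (c + 1) = 0 by linear_combination hc) with h | h
  · exact Or.inl h
  · exact Or.inr (by linear_combination h - u_two_eq_zero hF)

theorem TT_of_one_two {hF : Fintype.card F = 2 ^ 2} {P : PQ (uFP hF) V} {H : Subgroup P.Iso}
    {x : V} (h : P.eich x 0 1 ∈ H) : P.TT H x := fun c hc => by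
  rcases u_lam_two hc with rfl | rfl
  · rw [eich_zero]; exact one_mem _
  · exact h

theorem AllReg.exists_lift {hF : Fintype.card F = 2 ^ 2} {P : PQ (uFP hF) V}
    [FiniteDimensional F V] {H : Subgroup P.Iso} (hR : P.AllReg H) (hP : P.ND)
    (h6 : 6 ≤ finrank F V) {e f : V} (h : P.Hyp e f) (heT : ¬ P.TT H e) {y : V}
    (hy : y ∈ P.perp {e, f}) (hs : P.Sing y) : ∃ a : F, P.TT H (a • e + y) := by
  by_cases hy0 : y = 0
  · exact ⟨0, by simpa [hy0] using TT.zero⟩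
  have h2 := u_two_eq_zero hF
  have h1 : (1 : F) ∈ (uFP hF).Λ := by rw [mem_uFP_lam, map_one]; linear_combination h2
  have hRe := hR e h.left heT
  have hL : ∀ z ∈ P.perp {e, f}, P.Sing z → P.eich z 0 1 ∈ P.Lv e f := fun z hz hzs =>
    eich_mem_Lv hz (zero_mem _) (EOk.lam hzs h1)
  obtain ⟨u, hu, c, hc, hH⟩ := h.exists_of_mem_Kc (hRe.le (Lv_le_Gam _ _ (hL y hy hs)))
  obtain ⟨y', hy', h'⟩ := h.exists_hyp_perp hP hy hy0 hs
  have key : ∀ z ∈ P.perp {e, f}, P.Sing z → P.B z y = 0 → z ∉ F ∙ y → P.B u z = 0 := by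
    intro z hz hzs hzy hz'
    obtain ⟨u', hu', c', hc', hH'⟩ := h.exists_of_mem_Kc (hRe.le (Lv_le_Gam _ _ (hL z hz hzs)))
    have := eich_cocycle h hRe (hL y hy hs) (hL z hz hzs) (transvec_commute hzs h1 (by
      rw [transvec_smul_vec hs h1, hzy]; simp)) hu hu' hc hc' hH hH'
    rw [transvec_smul_vec hs h1, transvec_smul_vec hzs h1] at this
    by_contra h0
    refine hz' ((Submodule.smul_mem_iff _ h0).1 (Submodule.mem_span_singleton.2 ⟨P.B u' y, ?_⟩))
    simp only [uFP_eps, one_mul] at this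
    linear_combination (norm := module) -this
  have k1 := h.finrank_perp
  have k2 := (h'.res hy hy').finrank_perp
  obtain ⟨z, hz, hz0, hzs⟩ := u_iso (P := P.res (P.perp {e, f}))
    ((P.res _).perp {⟨y, hy⟩, ⟨y', hy'⟩}) (by omega)
  have hz' : (z : V) ∈ P.perp {y, y'} := by
    have := mem_perp_pair.1 hz
    exact mem_perp_pair.2 this
  have hzy := h'.notMem_span_left hz' fun h0 => hz0 (Subtype.ext h0)
  have k3 := key z z.2 hzs (mem_perp_pair.1 hz').1 hzy
  have k4 := key (z + y) (add_mem z.2 hy) (Sing.add hzs hs (mem_perp_pair.1 hz').1)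
    (by simp [(mem_perp_pair.1 hz').1, hs.B_self]) fun hm =>
      hzy (by simpa using sub_mem hm (Submodule.mem_span_singleton_self y))
  rw [map_add, k3, zero_add] at k4
  obtain ⟨β, rfl⟩ := Submodule.mem_span_singleton.1 (show u ∈ F ∙ y by
    by_contra hn
    obtain ⟨w, hw, hw', hws, hw0⟩ := h.exists_sing_perp₂ hP h' hy hy' ⟨z, hz, hz0, hzs⟩ hu k4 hn
    exact hw0 (key w hw hws (mem_perp_pair.1 hw').1
      (h'.notMem_span_left hw' (by rintro rfl; simp at hw0))))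
  have hye := (mem_perp_pair.1 hy).1
  obtain ⟨o, k5⟩ := u_transvec_add h.left hs hye (-frobq hF β) h1
  simp only [map_neg, frobq_frobq, mul_one, neg_neg] at o k5
  refine ⟨-frobq hF β, TT_of_one_two ?_⟩
  have hc1 := o.val.sub_mem hc.val
  rcases u_lam_two hc1 with k6 | k6
  · rw [k5, sub_eq_zero.1 k6]; exact hH
  exfalso
  set x := -frobq hF β • e + y with hx
  have hxs : P.Sing x := (h.left.smul _).add hs (by simp [B_swap_zero hye])
  have hxe : P.B x e = 0 := by simp [hx, hye, h.left.B_self]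
  have hxy : P.B y' x = 1 := by simp [hx, (mem_perp_pair.1 hy').1, h'.pair']
  have k7 : P.eich e 0 1 * P.eich x 0 1 ∈ H := by
    rw [k5, ← mul_assoc, (EOk.lam h.left h1).eich_mul o]
    convert hH using 3
    · rw [zero_add]
    · rw [map_zero]; linear_combination k6 + h2
  clear_value x
  obtain ⟨o', k8⟩ := u_transvec_add h.left hxs hxe 1 h1
  have hs' : P.Sing ((1 : F) • e + x) := (h.left.smul _).add hxs (by simp [B_swap_zero hxe])
  by_cases hT : P.TT H ((1 : F) • e + x)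
  · have k9 := mul_mem (hT 1 h1) (inv_mem k7)
    rw [k8, mul_inv_rev, mul_assoc, mul_inv_cancel_left, transvec_inv h.left h1,
      o'.eich_mul (EOk.lam h.left (neg_mem h1))] at k9
    have := h.mem_span_of_eich_eq_one (o'.add (EOk.lam h.left (neg_mem h1)))
      (hRe.eq_one _ (eich_mem_U _ _ _) k9)
    obtain ⟨b, hb⟩ := Submodule.mem_span_singleton.1 this
    have := congrArg (P.B y') hb
    simp [hxy, (mem_perp_pair.1 hy').1] at this
  · have k9 := (hR _ hs' hT).eq_one _ ⟨?_, fun v hv => ⟨-P.B v x, ?_⟩⟩ k7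
    · have := congrArg (fun g : P.Iso => P.B (g • y') y') k9
      simp only [mul_smul, one_smul, transvec_smul_vec hxs h1, transvec_smul_vec h.left h1,
        hxy] at this
      simp [(mem_perp_pair.1 hy').1, hxe, u_swap y' x, hxy] at this
    · rw [mul_smul, transvec_smul_vec hxs h1, transvec_smul_vec h.left h1]
      simp [B_swap_zero hxe, hxs.B_self, h.left.B_self, hxe]
    · rw [mul_smul, transvec_smul_vec hxs h1, transvec_smul_vec h.left h1]
      simp only [map_add, one_smul] at hv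
      simp only [map_sub, LinearMap.sub_apply, B_smul_left, hxe, uFP_eps,
        eq_neg_of_add_eq_zero_left hv]
      match_scalars
      · ring
      · ring
      · linear_combination P.B v x * h2

theorem AllReg.star_of_lift [FiniteDimensional F V] {H : Subgroup P.Iso} (hR : P.AllReg H)
    (hP : P.ND) (h6 : 6 ≤ finrank F V) {e f : V} (h : P.Hyp e f) (heT : ¬ P.TT H e)
    (hl : ∀ f, P.Hyp e f → ∀ y ∈ P.perp {e, f}, P.Sing y → ∃ a : F, P.TT H (a • e + y)) :
    P.Star H e := by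
  let A : Set V := {x | P.Sing x ∧ P.B x e = 0 ∧ P.TT H x}
  have hRe := hR e h.left heT
  have hA0 : (0 : V) ∈ A := ⟨sing_zero, by simp, TT.zero⟩
  have hAs : ∀ (a : F), ∀ x ∈ A, a • x ∈ A := fun a x hx =>
    ⟨hx.1.smul a, by simp [hx.2.1], hx.2.2.smul hx.1 a⟩
  have hAa : ∀ x ∈ A, ∀ y ∈ A, P.B x y ∈ (uFP hF).Λ → x + y ∈ A := fun x hx y hy hxy => by
    have : P.Sing (x + y) := (sing_iff_of_QEq (QEq.add hx.1 hy.1)).2 (by simpa using hxy)
    exact ⟨this, by simp [hx.2.1, hy.2.1], hR.add hP hx.1 hy.1 this hx.2.2 hy.2.2⟩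
  have hred : ∀ x ∈ A, ∀ y ∈ A, ∀ z ∈ A, ∃ u ∈ A, ∃ v ∈ A, x + y + z = u + v := by
    intro x hx y hy z hz
    by_cases hxy : P.B x y = 0
    · exact ⟨_, hAa x hx y hy (hxy ▸ zero_mem _), z, hz, rfl⟩
    have h' := hyp_of_ne hx.1 hy.1 hxy
    set y' := frobq hF (P.B x y)⁻¹ • y with hy'
    have he' : e ∈ P.perp {x, y'} :=
      mem_perp_pair.2 ⟨B_swap_zero hx.2.1, by simp [hy', B_swap_zero hy.2.1]⟩
    obtain ⟨f', hf', h''⟩ := h'.exists_hyp_perp hP he' h.left_ne_zero h.left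
    have hp := h'.hproj_mem z
    have hpe : P.B (P.hproj x y' z) e = 0 := by rw [Hyp.B_hproj_right _ he', hz.2.1]
    by_cases hm : P.hproj x y' z ∈ F ∙ e
    · obtain ⟨b, hb⟩ := Submodule.mem_span_singleton.1 hm
      obtain ⟨s, t, hst⟩ : ∃ s t : F, z = b • e + (s • x + t • y) := by
        have := hyp_decomp (P := P) x y' z
        rw [← hb] at this
        exact ⟨_, _, this.trans (by rw [hy', smul_smul]; abel)⟩
      have k1 : s • x + t • y ∈ A := hAa _ (hAs s x hx) _ (hAs t y hy)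
        (u_B_mem_lam (hx.1.smul s) (hy.1.smul t) (by
          rw [eq_neg_add_of_add_eq hst.symm]
          exact (h.left.smul b).neg.add hz.1 (by simp [B_swap_zero hz.2.1])))
      obtain rfl := hRe.eq_zero hP h.left heT k1.1 k1.2.1 k1.2.2 (hst ▸ hz.2.2)
      exact ⟨_, hAs (1 + s) x hx, _, hAs (1 + t) y hy, by rw [hst]; module⟩
    · have k1 := h'.finrank_perp
      have k2 := (h''.res he' hf').finrank_perp
      obtain ⟨w, hw, hw', hws, hw0⟩ := h'.exists_sing_perp₂ hP h'' he' hf'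
        (u_iso (P := P.res _) _ (by omega)) hp hpe hm
      rw [Hyp.B_hproj_right _ hw] at hw0
      have hwx := B_swap_zero (mem_perp_pair.1 hw).1
      have hwy : P.B y w = 0 := B_swap_zero (by simpa [hy', hxy] using (mem_perp_pair.1 hw).2)
      obtain ⟨a, ha⟩ := hl f' h'' _ (Submodule.smul_mem _ (-P.B x z / P.B w z) hw') (hws.smul _)
      have k3 : a • e + (-P.B x z / P.B w z) • w ∈ A := ⟨(h.left.smul a).add (hws.smul _)
        (by simp [B_swap_zero (mem_perp_pair.1 hw').1]),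
        by simp [(mem_perp_pair.1 hw').1, h.left.B_self], ha⟩
      refine ⟨_, hAa _ (hAa x hx _ k3 (by simp [hwx, hx.2.1])) z hz (by
        simp [B_swap_zero hz.2.1, div_mul_cancel₀ _ (B_swap_ne hw0)]), _,
        hAa y hy _ (hAs (-1) _ k3) (by simp [hwy, hy.2.1]), by module⟩
  let X : Submodule F V :=
    { carrier := {x | ∃ u ∈ A, ∃ v ∈ A, x = u + v}
      zero_mem' := ⟨0, hA0, 0, hA0, by simp⟩
      smul_mem' := by
        rintro a _ ⟨u, hu, v, hv, rfl⟩
        exact ⟨_, hAs a u hu, _, hAs a v hv, smul_add _ _ _⟩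
      add_mem' := by
        rintro _ _ ⟨u, hu, v, hv, rfl⟩ ⟨u', hu', v', hv', rfl⟩
        obtain ⟨x, hx, y, hy, hxy⟩ := hred u hu v hv u' hu'
        rw [← add_assoc, hxy]
        exact hred x hx y hy v' hv' }
  obtain ⟨y, hy, hy'⟩ := Rep.exists_perp (B := P.B) hP.rep X (u := e) (by
    rintro ⟨u, hu, v, hv, huv⟩
    exact one_ne_zero (hRe.eq_zero hP h.left heT (hAs (-1) u hu).1 (hAs (-1) u hu).2.1
      (hAs (-1) u hu).2.2 (a := 1) (by rw [huv]; simpa using hv.2.2)))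
  obtain ⟨f', h', a, b, rfl⟩ := exists_hyp_of_ne h.left hy'
  refine ⟨_, h', fun x hx hs => ?_⟩
  obtain ⟨c, hc⟩ := hl _ h' x hx hs
  have hxe := (mem_perp_pair.1 hx).1
  have k1 : c • e + x ∈ A :=
    ⟨(h.left.smul c).add hs (by simp [B_swap_zero hxe]), by simp [hxe, h.left.B_self], hc⟩
  have k2 : P.B (c • e + x) (a • y + b • e) = 0 := by
    rw [map_add, B_smul_right, B_smul_right, hy _ ⟨_, k1, 0, hA0, (add_zero _).symm⟩, k1.2.1]
    simp
  rw [map_add P.B, LinearMap.add_apply, B_smul_left, h'.pair, (mem_perp_pair.1 hx).2] at k2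
  simpa [show c = 0 by simpa using k2] using hc

theorem AllReg.star [FiniteDimensional F V] {H : Subgroup P.Iso} (hR : P.AllReg H) (hP : P.ND)
    (h5 : 5 ≤ finrank F V) {e : V} (he : P.Sing e) (heT : ¬ P.TT H e) : P.Star H e := by
  obtain ⟨f, h⟩ := hP.exists_hyp he (by rintro rfl; exact heT TT.zero)
  by_cases hq : q = 2
  · subst hq
    rcases h5.eq_or_lt with h6 | h6
    · exact (hR e he heT).star_of_five h hP h6.symm
    · exact hR.star_of_lift hP h6 h heT fun f h y => hR.exists_lift hP h6 h heT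
  · exact (hR e he heT).star_of_three h hP h5 hq

end U

end PQ

end Cfsg.Agent.Polar
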