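import Cfsg.Agent.Polar.UReg

/-! Minimal index of proper subgroups of unitary groups of dimension at least five. -/

open Module

namespace Cfsg.Agent.Polar

open Cfsg.Agent.Forms

variable {F : Type*} [Field F]
variable {V : Type*} [AddCommGroup V] [Module F V]

theorem ar_mu1 {q c j y φ d : ℕ} (hq : 2 ≤ q) (hc : (q + 1) * q ^ d ≤ c)
    (hj : j * y = q ^ (d + 1) * q ^ (d + 1)) (hy : y ≤ q ^ (d + 1)) (hφ : q ≤ φ) :
    (q + 1) * (q ^ (d + 1) * q ^ (d + 1)) ≤ c * j * φ :=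
  calc _ = (q + 1) * q ^ d * q ^ (d + 1) * q := by ring
    _ ≤ _ := by gcongr; exact ar_j hj hy (by positivity)

theorem ar_mu2 {q a N s : ℕ} (hq : 2 ≤ q) (ha : q ^ 5 ≤ a) (hs : s ≤ q)
    (h : a ^ 2 ≤ q * N + s * a) : q ^ 2 * (q + 1) * a + q ≤ q * N := by
  have h1 : q ^ 2 * (q + 1) + q + 1 ≤ q ^ 5 := by
    have : q ^ 3 * 4 ≤ q ^ 3 * q ^ 2 := Nat.mul_le_mul_left _ (by nlinarith)
    have : q ^ 2 ≤ q ^ 3 := Nat.pow_le_pow_right (by omega) (by omega)
    have : q + 1 ≤ q ^ 2 := by nlinarith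
    nlinarith
  have h2 : q ≤ a := by nlinarith
  have h3 := Nat.mul_le_mul_right a (h1.trans ha)
  have h4 := Nat.mul_le_mul_right a hs
  nlinarith

namespace PQ

variable [Fintype F] {q : ℕ} {hF : Fintype.card F = q ^ 2} {P : PQ (uFP hF) V}

/-- Moving a vector by transvections to prescribe the trace of an inner product. -/
theorem u_conn [FiniteDimensional F V] (hP : P.ND) (h3 : 3 ≤ finrank F V) {O : Set V}
    (hO : ∀ w ∈ O, ∀ y, P.Sing y → ∀ c ∈ (uFP hF).Λ, w - (c * P.B w y) • y ∈ O) {v w : V}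
    (hv : v ≠ 0) (hw : w ∈ O) (hw0 : w ≠ 0) (κ : F) : ∃ w ∈ O, κ + P.B v w ∈ (uFP hF).Λ := by
  obtain ⟨e, he0, he⟩ := u_exists_sing P (by omega)
  obtain ⟨f, h⟩ := hP.exists_hyp he he0
  obtain ⟨y, hy, hvy⟩ : ∃ y, P.Sing y ∧ P.B v y = 1 := by
    obtain ⟨y, hy, hvy⟩ := h.exists_sing_ne' hP hv
    exact ⟨frobq hF (P.B v y)⁻¹ • y, hy.smul _, by simp [frobq_frobq, hvy]⟩
  clear! e
  obtain ⟨y', h⟩ := hP.exists_hyp hy (by rintro rfl; simp at hvy)
  obtain ⟨γ, hγ, hγ0⟩ := u_exists_lam hF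
  have C1 : ∀ w ∈ O, frobq hF (P.B w y) ≠ P.B w y → ∃ w ∈ O, κ + P.B v w ∈ (uFP hF).Λ := by
    intro w hw hwy
    have h1 : frobq hF (P.B w y) - P.B w y ≠ 0 := sub_ne_zero.2 hwy
    have h2 : P.B w y - frobq hF (P.B w y) ≠ 0 := sub_ne_zero.2 hwy.symm
    refine ⟨_, hO w hw y hy (-(κ + P.B v w + frobq hF (κ + P.B v w)) /
      (frobq hF (P.B w y) - P.B w y)) ?_, ?_⟩ <;>
    simp only [mem_uFP_lam, map_sub, map_add, map_neg, map_div₀, map_mul, frobq_frobq,
      B_smul_right, hvy, map_one] <;> field_simp <;> ring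
  have C2 : ∀ w ∈ O, P.B w y ≠ 0 → ∃ w ∈ O, κ + P.B v w ∈ (uFP hF).Λ := by
    intro w hw hwy
    by_cases h1 : frobq hF (P.B w y) = P.B w y
    swap
    · exact C1 w hw h1
    obtain ⟨u, hu, hu'⟩ : ∃ u ∈ P.perp {y, y'},
        P.B w (y' + u) + frobq hF (P.B w (y' + u)) ≠ P.B w y * P.B u u := by
      by_cases h2 : P.B w y' + frobq hF (P.B w y') = 0
      · have := h.finrank_perp
        have : Nontrivial (P.perp {y, y'}) := Module.nontrivial_of_finrank_pos (R := F) (by omega)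
        obtain ⟨θ, hθ⟩ := exists_trace_one hF
        obtain ⟨⟨u, hu⟩, hu'⟩ := u_exists_QEq (h.emb.nd hP) θ
        have h4 : P.B u u = 1 := (u_QEq_iff.1 hu').symm.trans hθ
        by_cases h5 : P.B w u = 0
        · exact ⟨u, hu, by rw [map_add, h5, add_zero, h2, h4, mul_one]; exact hwy.symm⟩
        · refine ⟨frobq hF (γ / P.B w u) • u, Submodule.smul_mem _ _ hu, ?_⟩
          rw [map_add, B_smul_right, B_smul_left, B_smul_right, h4, frobq_frobq,
            div_mul_cancel₀ _ h5, map_add, u_lam_tau hγ, show P.B w y' + γ +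
              (frobq hF (P.B w y') + -γ) = 0 by linear_combination h2]
          simp [hwy, h5, hγ0]
      · exact ⟨0, zero_mem _, by simpa using h2⟩
    have hu1 := mem_perp_pair.1 hu
    have h2 : P.B (y' + u) y = 1 := by simp [hu1.1, h.pair']
    obtain ⟨s, hs⟩ := exists_QEq_add_smul hy (h2.trans_ne one_ne_zero) 0
    have h4 := Sing.B_self hs
    simp only [map_add, LinearMap.add_apply, B_smul_left, B_smul_right, hu1.1, hu1.2,
      B_swap_zero hu1.1, B_swap_zero hu1.2, h.pair, h.pair', hy.B_self, h.right.B_self,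
      uFP_eps] at h4
    refine C1 _ (hO w hw _ hs γ hγ) fun h5 => hu' ?_
    rw [map_sub, LinearMap.sub_apply, B_smul_left, map_add P.B, LinearMap.add_apply, h2,
      B_smul_left, hy.B_self, map_add (P.B w) _ (s • y), B_smul_right] at h5
    simp only [map_sub, map_mul, map_add (frobq hF), h1, u_lam_tau hγ, frobq_frobq, mul_zero,
      add_zero, mul_one] at h5
    exact mul_left_cancel₀ hγ0 (by linear_combination h5 - γ * P.B w y * h4)
  by_cases hwy : P.B w y = 0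
  · obtain ⟨z, hz, h1, h2⟩ : ∃ z, P.Sing z ∧ P.B w z ≠ 0 ∧ P.B z y ≠ 0 := by
      by_cases hm : w ∈ F ∙ y
      · obtain ⟨a, rfl⟩ := Submodule.mem_span_singleton.1 hm
        exact ⟨y', h.right, by simpa [h.pair] using left_ne_zero_of_smul hw0, by simp [h.pair']⟩
      · obtain ⟨z, hz, h1, h2⟩ := hP.exists_sing_common hy hwy
          (li_of_notMem h.left_ne_zero hm) 1 1 one_ne_zero
        exact ⟨z, hz, h2.trans_ne one_ne_zero, B_swap_ne (h1.trans_ne one_ne_zero)⟩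
    exact C2 _ (hO w hw z hz γ hγ) (by simp [hwy, hγ0, h1, h2])
  · exact C2 w hw hwy

section
variable [FiniteDimensional F V] {H : Subgroup P.Iso} (hR : P.AllReg H) (hP : P.ND)
  {e f : V} (h : P.Hyp e f) (heT : ¬ P.TT H e) (hS : ∀ y ∈ P.perp {e, f}, P.Sing y → P.TT H y)
include hR hP h heT hS

omit [FiniteDimensional F V] in
theorem AllReg.B_eq_zero {x : V} (hx : P.Sing x) (hxe : P.B x e = 0) (hT : P.TT H x) :
    P.B x f = 0 :=
  (hR e h.left heT).eq_zero hP h.left heT (h.sing_hproj hx hxe) (mem_perp_pair.1 (h.hproj_mem x)).1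
    (hS _ (h.hproj_mem x) (h.sing_hproj hx hxe)) (by rwa [add_comm, ← Hyp.eq_of_perp hxe])

theorem AllReg.B_eq (h5 : 5 ≤ finrank F V) {x y : V} (hx : P.Sing x) (hxe : P.B x e = 1)
    (hT : P.TT H x) (hy : P.Sing y) (hye : P.B y e = 1) (hT' : P.TT H y) :
    P.B x f = P.B y f := by
  have hdec : ∀ x, P.B x e = 1 → x = P.B x f • e + P.hproj e f x + f := fun x hx => by
    simpa [hx] using hyp_decomp (P := P) e f x
  have k1 : ∀ x y, P.Sing x → P.B x e = 1 → P.TT H x → P.Sing y → P.B y e = 1 → P.TT H y →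
      P.B x y ∈ (uFP hF).Λ → P.B x f = P.B y f := fun x y hx hxe hT hy hye hT' hl => by
    obtain ⟨h1, h2⟩ := hR.sub hP hx hy hl hT hT'
    simpa [sub_eq_zero] using hR.B_eq_zero hP h heT hS h1 (by simp [hxe, hye]) h2
  have k2 : ∀ x y, P.Sing x → P.B x e = 1 → P.TT H x → P.Sing y → P.B y e = 1 → P.TT H y →
      P.hproj e f x ≠ 0 → P.hproj e f y ≠ 0 → P.B x f = P.B y f := by
    intro x y hx hxe hT hy hye hT' hx0 hy0
    have := h.finrank_perp
    obtain ⟨w, ⟨h1, h2⟩, h3⟩ := u_conn (h.emb.nd hP) (by omega)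
      (O := {w | P.Sing (P.B y f • e + w + f) ∧ P.TT H (P.B y f • e + w + f)})
      (fun w hw z hz c hc => by
        have h4 : P.eich z 0 c • (P.B y f • e + w + f) =
            P.B y f • e + (w - (c * (P.res _).B w z) • z : P.perp {e, f}) + f := by
          rw [transvec_smul_vec (P := P) (x := z) hz hc]
          simp [B_swap_zero (mem_perp_pair.1 z.2).1, B_swap_zero (mem_perp_pair.1 z.2).2]
          abel
        exact ⟨h4 ▸ hw.1.act _, h4 ▸ hw.2.act hw.1 (hS z z.2 hz c hc)⟩)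
      (v := ⟨_, h.hproj_mem x⟩) (w := ⟨_, h.hproj_mem y⟩) (fun h0 => hx0 (congrArg Subtype.val h0))
      ⟨(hdec y hye).subst hy, (hdec y hye).subst hT'⟩ (fun h0 => hy0 (congrArg Subtype.val h0))
      (P.B x f + frobq hF (P.B y f))
    have h4 := mem_perp_pair.1 w.2
    refine (k1 x _ hx hxe hT h1 (by simp [h.left.B_self, h4.1, h.pair']) h2 ?_).trans
      (by simp [h.right.B_self, h4.2, h.pair])
    convert h3 using 1
    simp [hxe, Hyp.B_hproj_right x w.2]
    ring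
  have k3 : ∀ x y, P.Sing x → P.B x e = 1 → P.TT H x → P.Sing y → P.B y e = 1 → P.TT H y →
      P.hproj e f x ≠ 0 → P.hproj e f y = 0 → P.B x f = P.B y f := by
    intro x y hx hxe hT hy hye hT' hx0 hy0
    by_cases hl : P.B x y ∈ (uFP hF).Λ
    · exact k1 x y hx hxe hT hy hye hT' hl
    obtain ⟨γ, hγ, hγ0⟩ := u_exists_lam hF
    have h1 : 1 - γ * P.B x y ≠ 0 := fun h0 => hl (by
      rw [show P.B x y = γ⁻¹ from eq_inv_of_mul_eq_one_right (by linear_combination -h0)]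
      exact lam_inv hγ)
    have h2 := transvec_smul_vec (P := P) hy hγ x
    have h3 : P.Sing _ := h2 ▸ hx.act _
    have h4 := k2 x _ hx hxe hT (h3.smul (1 - γ * P.B x y)⁻¹) (by simp [hxe, hye, h1])
      ((h2 ▸ hT.act hx (hT' γ hγ)).smul h3 _) hx0 (by simp [hy0, h1, hx0])
    simp only [B_smul_left, map_sub, LinearMap.sub_apply, uFP_eps, one_mul] at h4
    have h5 : P.B x y ≠ 0 := fun h0 => hl (h0 ▸ zero_mem _)
    field_simp at h4
    exact mul_left_cancel₀ (mul_ne_zero hγ0 h5) (by linear_combination -h4)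
  by_cases hx0 : P.hproj e f x = 0 <;> by_cases hy0 : P.hproj e f y = 0
  · refine k1 x y hx hxe hT hy hye hT' ?_
    have h1 := hdec x hxe
    have h2 := hdec y hye
    rw [hx0] at h1
    rw [hy0] at h2
    have h3 := u_B_mem_lam hx hy.neg (by
      rw [h1, h2, show ∀ a b : F, a • e + 0 + f + -(b • e + 0 + f) = (a - b) • e from
        fun a b => by module]
      exact h.left.smul _)
    simpa using h3
  · exact (k3 y x hy hye hT' hx hxe hT hy0 hx0).symm
  · exact k3 x y hx hxe hT hy hye hT' hx0 hy0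
  · exact k2 x y hx hxe hT hy hye hT' hx0 hy0

end

theorem AllReg.exists_pst [FiniteDimensional F V] {H : Subgroup P.Iso} (hR : P.AllReg H)
    (hP : P.ND) (h5 : 5 ≤ finrank F V) (hH : ¬ P.EG ≤ H) : ∃ v, v ≠ 0 ∧ H ≤ P.pst v := by
  obtain ⟨e, he, he0, heT⟩ := exists_not_TT (u_TG_eq_EG hP (by omega)) hH
  obtain ⟨f, h, hS⟩ := hR.star hP h5 he heT
  let X := Submodule.span F {x | P.Sing x ∧ P.TT H x}
  have hX : ∀ g ∈ H, ∀ x ∈ X, g • x ∈ X := fun g hg => span_stab fun x hx =>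
    Submodule.subset_span ⟨hx.1.act g, hx.2.act hx.1 hg⟩
  have hW : ∀ e f, P.Hyp e f → (∀ y ∈ P.perp {e, f}, P.Sing y → P.TT H y) →
      P.perp {e, f} ≤ X := fun e f h hS x hx => by
    have := h.finrank_perp
    obtain ⟨y, hy, hy0, hys⟩ := u_iso (P := P) (P.perp {e, f}) (by omega)
    obtain ⟨y', hy', h'⟩ := h.exists_hyp_perp hP hy hy0 hys
    exact h'.mem_of_sing (S := X.toAddSubgroup) hy hy'
      (fun z hz hzs => Submodule.subset_span ⟨hzs, hS z hz hzs⟩) hx
  obtain ⟨v, hv0, hv⟩ : ∃ v, v ≠ 0 ∧ X ≤ P.perp {v} := by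
    by_cases h1 : ∃ x, P.Sing x ∧ P.TT H x ∧ P.B x e = 1
    · obtain ⟨x, hx, hT, hxe⟩ := h1
      refine ⟨f - frobq hF (P.B x f) • e, fun h0 => ?_, Submodule.span_le.2 fun y hy =>
        mem_perp_singleton.2 ?_⟩
      · simpa [h.pair, he.B_self] using congrArg (P.B e) h0
      · rw [map_sub, B_smul_right, frobq_frobq]
        by_cases hye : P.B y e = 0
        · rw [hye, hR.B_eq_zero hP h heT hS hy.1 hye hy.2]; simp
        · rw [hR.B_eq hP h heT hS h5 hx hxe hT (hy.1.smul (P.B y e)⁻¹) (by simp [hye])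
            (hy.2.smul hy.1 _), B_smul_left]
          field_simp; ring
    · refine ⟨e, he0, Submodule.span_le.2 fun y hy => mem_perp_singleton.2 ?_⟩
      by_contra hye
      exact h1 ⟨_, hy.1.smul (P.B y e)⁻¹, hy.2.smul hy.1 _, by simp [hye]⟩
  have h1 := finrank_perp hP (F ∙ v)
  rw [finrank_span_singleton hv0, perp_span] at h1
  have h2 := Submodule.finrank_mono hv
  have h3 := h.finrank_perp
  have h4 := Submodule.finrank_mono (hW e f h hS)
  by_cases h6 : finrank F X + 1 = finrank F V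
  · exact exists_pst_of_hyperplane hP hX h6
  exfalso
  have h7 := Submodule.eq_of_le_of_finrank_eq (hW e f h hS) (by omega)
  obtain ⟨y, hy, hy0, hys⟩ := u_iso (P := P) (P.perp {e, f}) (by omega)
  obtain ⟨y', hy', h'⟩ := h.exists_hyp_perp hP hy hy0 hys
  have hs : P.Sing (e + y) := he.add hys (B_swap_zero (mem_perp_pair.1 hy).1)
  obtain ⟨f', h'', hS'⟩ := hR.star hP h5 hs fun hT => by
    have := (mem_perp_pair.1 (h7.ge (Submodule.subset_span ⟨hs, hT⟩))).2
    simp [h.pair, (mem_perp_pair.1 hy).2] at this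
  have h8 := h''.finrank_perp
  have h9 := Submodule.eq_of_le_of_finrank_eq (hW _ _ h'' hS') (by omega)
  have := (mem_perp_pair.1 (h9.ge (h7.le hy'))).1
  simp [(mem_perp_pair.1 hy').1, h'.pair'] at this

theorem u_fix_of_weak [Finite V] (hP : P.ND) {d : ℕ} (hd : finrank F V = d + 3) (hd2 : 2 ≤ d)
    (hw : 3 ≤ d → ∀ e f, P.Hyp e f → ∀ K : Subgroup (P.res (P.perp {e, f})).Iso,
      ¬ (P.res _).EG ≤ K → (q + 1) * q ^ d ≤ K.relIndex (P.res _).EG) {H : Subgroup P.Iso}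
    (hH : ¬ P.EG ≤ H) (hn : H.relIndex P.EG < (q + 1) * (q ^ (d + 1) * q ^ (d + 1))) :
    ∃ v, v ≠ 0 ∧ H ≤ P.pst v := by
  have : FiniteDimensional F V := Module.Finite.of_finite
  have hq := two_le_q hF
  refine AllReg.exists_pst (fun e he heT => ?_) hP (by omega) hH
  obtain ⟨f, h⟩ := hP.exists_hyp he (by rintro rfl; exact heT TT.zero)
  replace hn := (relIndex_Gam_le H e).trans_lt hn
  refine h.uReg_of_bot hP (d := d + 1) hd (by omega) hn heT ?_
  rcases hd2.eq_or_lt with rfl | hd3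
  · exact h.u5_Yv_eq_bot hP hd hn heT
  by_contra hY
  obtain ⟨i, j, φ, hj, hy, -, h2, hφ, -⟩ := h.u_local hP (d := d + 1) hd (by omega) heT
  refine (h2 ▸ hn).not_ge (ar_mu1 hq ((hw hd3 e f h _ fun hle => ?_).trans
    ((h.relIndex_comap_le (P.Kc H e)).trans (relIndex_Lv_le _ e f))) hj hy hφ)
  have hK : ∀ g ∈ (P.res (P.perp {e, f})).EG, ∀ y ∈ _, g • y ∈ _ :=
    fun g hg => h.comap_Yv_stab H g (hle hg) hg
  have h3 := h.finrank_perp
  obtain ⟨x, hx, hx0⟩ := exists_ne_zero_of_ne_bot hY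
  obtain ⟨a, ha0, ha⟩ := u_exists_sing (P.res (P.perp {e, f})) (by omega)
  obtain ⟨b, h'⟩ := (h.emb.nd hP).exists_hyp ha ha0
  obtain ⟨z, hz, hxz⟩ := h'.exists_sing_ne' (h.emb.nd hP) (x := ⟨x, hx.2⟩)
    fun h0 => hx0 (congrArg Subtype.val h0)
  obtain ⟨γ, hγ, hγ0⟩ := u_exists_lam hF
  have h4 := sub_mem (show (⟨x, hx.2⟩ : P.perp {e, f}) ∈ _ from hx)
    (hK _ (eich_mem_EG z 0 γ) ⟨x, hx.2⟩ hx)
  rw [transvec_smul_vec hz hγ, sub_sub_cancel] at h4
  have h5 : (P.perp {e, f}).toAddSubgroup ≤ h.Yv H := fun w hw =>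
    h'.mem_of_sing (S := (h.Yv H).comap (P.perp {e, f}).subtype.toAddMonoidHom) (W := ⊤) trivial
      trivial (fun y _ hy => by
        by_cases hy0 : y = 0
        · rw [hy0]; exact zero_mem _
        obtain ⟨g, hg, rfl⟩ := u_vTrans (h.emb.nd hP) (by omega) _ y (hz.smul _) hy (smul_ne_zero
          (mul_ne_zero (uFP hF).eps_ne_zero (mul_ne_zero hγ0 hxz))
          (by rintro rfl; simp at hxz)) hy0
        exact hK g hg _ h4) (x := ⟨w, hw⟩) trivial
  have h6 := (AddSubgroup.card_le_of_le h5).trans hy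
  change Nat.card (P.perp {e, f}) ≤ _ at h6
  rw [h.u_card_perp (d := d + 1) hd] at h6
  have : 1 < q ^ (d + 1) := Nat.one_lt_pow (by omega) (by omega)
  nlinarith

theorem u_sing_index [Finite V] (hP : P.ND) {v : V} (hv : P.Sing v) (hv0 : v ≠ 0) :
    (q ^ 2 - 1) * (P.pst v).relIndex P.EG + 1 = P.nq 0 := by
  rw [← ncard_sing0_add_one, sing_index_eq hP u_rich hv hv0, u_card hF]

theorem u_nonsing_index [Finite V] (hP : P.ND) (h3 : 3 ≤ finrank F V) {v : V} (hv : ¬ P.Sing v) :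
    P.nq (P.Q v) = (P.pst v).relIndex P.EG * (q + 1) := by
  have : FiniteDimensional F V := Module.Finite.of_finite
  obtain ⟨e, he0, he⟩ := u_exists_sing P (by omega)
  obtain ⟨f, h⟩ := hP.exists_hyp he he0
  rw [nonsing_index_eq (u_vTrans hP h3) hP h (QEq.self v) hv fun t ht => ?_, u_ncard_norm_one]
  have h1 := ht.trace
  rw [(QEq.self v).trace, B_smul_left, B_smul_right] at h1
  exact mul_right_cancel₀ (mt u_sing_iff.2 hv) (by linear_combination -h1)

theorem u_pst_ge [Finite V] (hP : P.ND) {d : ℕ} (hd : finrank F V = d + 1) (hd4 : 4 ≤ d) {v : V}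
    (hv0 : v ≠ 0) : (q + 1) * q ^ d ≤ (P.pst v).relIndex P.EG := by
  have hq := two_le_q hF
  have h1 := u_count (d + 1) V P hP hd
  have h2 : q ^ 5 ≤ q ^ (d + 1) := Nat.pow_le_pow_right (by omega) (by omega)
  have h3 : ∀ N n k, q ^ 2 * (q + 1) * q ^ (d + 1) + q ≤ q * N → N ≤ k * n + 1 → k ≤ q ^ 2 →
      (q + 1) * q ^ d ≤ n := fun N n k k1 k2 k3 => by
    refine Nat.le_of_mul_le_mul_left (c := q * q ^ 2) ?_ (by positivity)
    have := Nat.mul_le_mul_left q (k2.trans (Nat.succ_le_succ (Nat.mul_le_mul_right n k3)))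
    rw [pow_succ q d] at k1
    nlinarith
  by_cases hv : P.Sing v
  · refine h3 (P.nq 0) _ _ (ar_mu2 hq h2 le_rfl ?_) (u_sing_index hP hv hv0).ge (Nat.sub_le _ _)
    rcases Nat.even_or_odd (d + 1) with h | h
    · have := (h1.1 h).1
      have := Nat.le_mul_of_pos_left (q ^ (d + 1)) (show 0 < q by omega)
      omega
    · have := (h1.2 h).1; omega
  · have hc := mt (sing_iff_of_QEq (QEq.self v)).2 hv
    refine h3 (P.nq (P.Q v)) _ (q + 1) (ar_mu2 (s := 1) hq h2 (by omega) ?_)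
      (by rw [u_nonsing_index hP (by omega) hv, mul_comm]; omega) (by nlinarith)
    rcases Nat.even_or_odd (d + 1) with h | h
    · have := (h1.1 h).2 _ hc; omega
    · have := (h1.2 h).2 _ hc; omega

universe u in
theorem u_weak (d : ℕ) : 3 ≤ d → ∀ (V : Type u) [AddCommGroup V] [Module F V] [Finite V]
    (P : PQ (uFP hF) V), P.ND → finrank F V = d + 1 → ∀ H : Subgroup P.Iso, ¬ P.EG ≤ H →
      (q + 1) * q ^ d ≤ H.relIndex P.EG := by
  have hq := two_le_q hF
  induction d using Nat.strong_induction_on with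
  | _ d ih =>
    intro hd V _ _ _ P hP hn H hH
    have : FiniteDimensional F V := Module.Finite.of_finite
    rcases hd.eq_or_lt with rfl | hd
    · exact le_trans (by gcongr; omega) (u4_min_index hP hn hH)
    obtain ⟨d, rfl⟩ : ∃ d', d = d' + 2 := ⟨d - 2, by omega⟩
    by_contra hlt
    obtain ⟨v, hv0, hv⟩ := u_fix_of_weak hP hn (by omega) (fun h3 e f h K hK => ih d (by omega)
      h3 _ _ (h.emb.nd hP) (by have := h.finrank_perp; omega) K hK) hH
      ((not_le.1 hlt).trans_le (by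
        rw [← pow_add]; gcongr <;> omega))
    exact hlt ((u_pst_ge hP hn (by omega) hv0).trans
      (relIndex_anti_left _ (inf_le_left.trans hv)))

theorem u_fix_point [Finite V] (hP : P.ND) {d : ℕ} (hd : finrank F V = d + 2) (hd3 : 3 ≤ d)
    {H : Subgroup P.Iso} (hH : ¬ P.EG ≤ H) (hn : H.relIndex P.EG < (q + 1) * (q ^ d * q ^ d)) :
    ∃ v, v ≠ 0 ∧ H ≤ P.pst v := by
  have : FiniteDimensional F V := Module.Finite.of_finite
  obtain ⟨d, rfl⟩ : ∃ d', d = d' + 1 := ⟨d - 1, by omega⟩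
  exact u_fix_of_weak hP hd (by omega) (fun h3 e f h K hK => u_weak d h3 _ _ (h.emb.nd hP)
    (by have := h.finrank_perp; omega) K hK) hH hn

theorem u_min_of [Finite V] (hP : P.ND) {d : ℕ} (hd : finrank F V = d + 2) (hd3 : 3 ≤ d)
    {G : Type*} [Group G] (φ : G ≃* P.EG) {N : ℕ} (h1 : N ≤ (q + 1) * (q ^ d * q ^ d))
    (h2 : ∀ v, v ≠ 0 → N ≤ (P.pst v).relIndex P.EG)
    (h3 : ∃ v, v ≠ 0 ∧ (P.pst v).relIndex P.EG = N) :
    (∀ H : Subgroup (G ⧸ Subgroup.center G), H ≠ ⊤ → N ≤ H.index) ∧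
      ∃ H : Subgroup (G ⧸ Subgroup.center G), H.index = N := by
  have : FiniteDimensional F V := Module.Finite.of_finite
  obtain ⟨e, he0, he⟩ := u_exists_sing P (by omega)
  obtain ⟨f, h⟩ := hP.exists_hyp he he0
  obtain ⟨v, hv0, hv⟩ := h3
  refine min_index_transfer φ (fun H hH => ?_) ⟨_, mem_pst_of_commute hP u_rich h hv0, hv⟩
  by_contra hlt
  obtain ⟨w, hw0, hw⟩ := u_fix_point hP hd hd3 hH ((not_le.1 hlt).trans_le h1)
  exact hlt ((h2 w hw0).trans (relIndex_anti_left _ (inf_le_left.trans hw)))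

end PQ

end Cfsg.Agent.Polar
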