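import Cfsg.Agent.Polar.MinU4

/-! Additive subgroups of three-dimensional unitary spaces with a large stabilizer. -/

open Module

namespace Cfsg.Agent.Polar

open Cfsg.Agent.Forms

theorem ar_u3 {q N : ℕ} (hq : 2 ≤ q) (h : q * (N + 1) + q * q ^ 3 = (q ^ 3) ^ 2 + 1 * q ^ 3) :
    N = (q ^ 2 - 1) * (q ^ 3 + 1) := by
  obtain ⟨k, hk⟩ : ∃ k, q ^ 2 = k + 1 := ⟨q ^ 2 - 1, by
    have : 0 < q ^ 2 := by positivity
    omega⟩
  rw [hk, Nat.add_sub_cancel]
  refine Nat.eq_of_mul_eq_mul_left (by omega : 0 < q) ?_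
  zify at *
  linear_combination h + (q ^ 4 + q) * hk

theorem ar_u5a {q c s t : ℕ} (hq : 2 ≤ q) (h : (q ^ 2 - 1) * (q ^ 3 + 1) * (q ^ 2 * q) ≤ c * s * t)
    (hs : s + 1 ≤ q ^ 3) (ht : t ≤ q) : q ^ 2 * (q + 1) ≤ c := by
  have h1 : q + 1 ≤ q ^ 2 - 1 := by
    have : q + 2 ≤ q ^ 2 := by nlinarith
    omega
  refine Nat.le_of_mul_le_mul_right (c := (q ^ 3 + 1) * q) ?_ (by positivity)
  calc _ = (q + 1) * (q ^ 3 + 1) * (q ^ 2 * q) := by ring
    _ ≤ c * s * t := le_trans (by gcongr) h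
    _ ≤ c * (q ^ 3 + 1) * q := by gcongr; omega
    _ = _ := by ring

theorem ar_u5b {q c c' s : ℕ} (hq : 2 ≤ q) (h : (q ^ 2 - 1) * (q ^ 3 + 1) * c' ≤ c * s)
    (hs : s + 1 = q ^ 2) (h' : q + 1 ≤ c' * 2) : q ^ 2 * (q + 1) ≤ c := by
  have h0 : 0 < s := by nlinarith
  rw [← hs, Nat.add_sub_cancel, mul_assoc, mul_comm c] at h
  have h1 := Nat.le_of_mul_le_mul_left h h0
  have h2 : 2 * q ^ 2 ≤ q ^ 3 + 1 := by nlinarith
  have h3 : 2 * q ^ 2 * (q + 1) ≤ (q ^ 3 + 1) * (c' * 2) := Nat.mul_le_mul h2 h'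
  nlinarith

theorem ar_u5c {q c j y φ : ℕ} (hq : 2 ≤ q) (hc : q ^ 3 ≤ c) (hj : j * y = q ^ 3 * q ^ 3)
    (hy : y = q ^ 3 ∨ 2 * y ≤ q ^ 3) (hφ : q ≤ φ) (h : c * j * φ < (q + 1) * (q ^ 3 * q ^ 3)) :
    y = q ^ 3 ∧ φ < q + 2 ∧ c < q ^ 2 * (q + 1) := by
  have h0 : 0 < q ^ 3 := by positivity
  rcases hy with rfl | hy
  · obtain rfl : j = q ^ 3 := Nat.eq_of_mul_eq_mul_right h0 hj
    refine ⟨rfl, ?_, ?_⟩
    · by_contra hlt
      have h1 : q ^ 3 * q ^ 3 * (q + 1) ≤ c * q ^ 3 * φ := by gcongr; omega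
      linarith
    · by_contra hlt
      have h1 : q ^ 2 * (q + 1) * q ^ 3 * q ≤ c * q ^ 3 * φ := by gcongr; omega
      linarith
  · exfalso
    have h2 : 2 * q ^ 3 ≤ j := by
      by_contra hlt
      have : j * (2 * y) ≤ j * q ^ 3 := Nat.mul_le_mul_left _ hy
      nlinarith
    have h1 : q ^ 3 * (2 * q ^ 3) * q ≤ c * j * φ := by gcongr
    have h3 : (q + 1) * (q ^ 3 * q ^ 3) ≤ (2 * q) * (q ^ 3 * q ^ 3) := by gcongr; omega
    linarith

variable {F : Type*} [Field F] [Fintype F] {q : ℕ}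
variable {V : Type*} [AddCommGroup V] [Module F V]

theorem exists_hilbert (hF : Fintype.card F = q ^ 2) {μ : F} (hμ : μ * frobq hF μ = 1) :
    ∃ t, t ≠ 0 ∧ frobq hF t = μ * t := by
  have key : ∀ a, frobq hF (a + frobq hF μ * frobq hF a) = μ * (a + frobq hF μ * frobq hF a) :=
    fun a => by
      rw [map_add, map_mul, frobq_frobq, frobq_frobq]; linear_combination (-frobq hF a) * hμ
  by_contra hn
  push Not at hn
  obtain ⟨θ, hθ⟩ := exists_frobq_ne hF
  have h1 := not_not.1 (mt (hn _) (not_not.2 (key 1)))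
  have h2 := not_not.1 (mt (hn _) (not_not.2 (key θ)))
  rw [map_one] at h1
  exact hθ (by linear_combination frobq hF θ * h1 - h2)

/-- The fixed field as an additive subgroup. -/
def fixA (hF : Fintype.card F = q ^ 2) : AddSubgroup F where
  carrier := {a | frobq hF a = a}
  zero_mem' := map_zero _
  add_mem' := fun {a b} ha hb => by
    simp only [Set.mem_ofPred_eq] at *; rw [map_add, ha, hb]
  neg_mem' := fun {a} ha => by
    simp only [Set.mem_ofPred_eq] at *; rw [map_neg, ha]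

theorem card_fixA (hF : Fintype.card F = q ^ 2) : Nat.card (fixA hF) = q := card_fix hF

theorem exists_fix_binary (hF : Fintype.card F = q ^ 2) {α β γ : F} (hα : frobq hF α = α)
    (hβ : frobq hF β = β) (hγ : frobq hF γ = γ) (hα0 : α ≠ 0) (hβ0 : β ≠ 0) :
    ∃ a b, frobq hF a = a ∧ frobq hF b = b ∧ a * a * α + b * b * β + γ = 0 := by
  have key : ∀ α γ : F, α ≠ 0 →
      q + 1 ≤ 2 * ((fun a => a * a * α + γ) '' {a | frobq hF a = a}).ncard := fun α γ hα => by
    have h1 := ncard_le_mul_of_fiber (Set.toFinite ({a | frobq hF a = a} \ {0}))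
      (Set.toFinite (((fun a => a * a * α + γ) '' {a | frobq hF a = a}) \ {γ}))
      (fun a => a * a * α + γ) (fun a ha => ⟨⟨a, ha.1, rfl⟩, by simpa [hα] using ha.2⟩) (n := 2)
      fun b _ => le_trans (Set.ncard_le_ncard fun a ha => by
        have := ha.2
        change a * a = _
        field_simp
        linear_combination this) (ncard_sq_le ((b - γ) / α))
    have h2 := Set.ncard_sdiff_singleton_add_one (s := {a | frobq hF a = a}) (a := 0) (by simp)
    have h3 := Set.ncard_sdiff_singleton_add_one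
      (s := (fun a => a * a * α + γ) '' {a | frobq hF a = a}) (a := γ) ⟨0, by simp, by simp⟩
    rw [PQ.u_ncard_fix] at h2
    omega
  by_contra hn
  push Not at hn
  have h1 := key α 0 hα0
  have h2 := key (-β) (-γ) (neg_ne_zero.2 hβ0)
  have h3 := Set.ncard_union_eq (s := (fun a => a * a * α + 0) '' {a | frobq hF a = a})
    (t := (fun a => a * a * -β + -γ) '' {a | frobq hF a = a}) (Set.disjoint_left.2 (by
      rintro _ ⟨a, ha, rfl⟩ ⟨b, hb, h⟩
      exact hn a b ha hb (by linear_combination -h)))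
  have h4 : ((fun a => a * a * α + 0) '' {a | frobq hF a = a} ∪
      (fun a => a * a * -β + -γ) '' {a | frobq hF a = a}).ncard ≤ q := by
    refine le_trans (Set.ncard_le_ncard ?_) (PQ.u_ncard_fix hF).le
    rintro _ (⟨a, ha, rfl⟩ | ⟨a, ha, rfl⟩) <;>
      simp only [Set.mem_ofPred_eq] at * <;> simp [ha, hα, hβ, hγ]
  omega

namespace PQ

variable {hF : Fintype.card F = q ^ 2} {P : PQ (uFP hF) V}

theorem Hyp.u3_aniso [Finite V] {e f : V} (h : P.Hyp e f) (hP : P.ND) (h3 : finrank F V = 3)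
    {w : V} (hw : w ∈ P.perp {e, f}) (hs : P.Sing w) : w = 0 := by
  have : FiniteDimensional F V := Module.Finite.of_finite
  have := h.finrank_perp
  exact congrArg Subtype.val ((u_count_line (h.emb.nd hP) (by omega)).1 ⟨w, hw⟩ hs)

omit [Fintype F] in
theorem Hyp.sing_hproj {τ : F →+* F} {π : FP F τ} {P : PQ π V} {e f : V} (h : P.Hyp e f) {x : V}
    (hx : P.Sing x) (hxe : P.B x e = 0) : P.Sing (P.hproj e f x) := by
  rw [eq_sub_of_add_eq (Hyp.eq_of_perp (f := f) hxe).symm, sub_eq_add_neg, ← neg_smul]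
  exact hx.add (h.left.smul _) (by simp [hxe])

theorem u3_mem_span [Finite V] (hP : P.ND) (h3 : finrank F V = 3) {x y : V} (hx : P.Sing x)
    (hx0 : x ≠ 0) (hy : P.Sing y) (hyx : P.B y x = 0) : y ∈ F ∙ x := by
  obtain ⟨f, h⟩ := hP.exists_hyp hx hx0
  rw [Hyp.eq_of_perp (f := f) hyx, h.u3_aniso hP h3 (h.hproj_mem y) (h.sing_hproj hy hyx), zero_add]
  exact Submodule.smul_mem _ _ (Submodule.mem_span_singleton_self x)

theorem u3_sing0 [Finite V] (hP : P.ND) (h3 : finrank F V = 3) :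
    (P.sing0 Set.univ).ncard = (q ^ 2 - 1) * (q ^ 3 + 1) :=
  ar_u3 (two_le_q hF) (ncard_sing0_add_one (P := P) ▸ ((u_count 3 V P hP h3).2 (by decide)).1)

theorem Hyp.u3_card_U [Finite V] {e f : V} (h : P.Hyp e f) (h3 : finrank F V = 3) :
    Nat.card (P.U e) = q ^ 2 * q := by
  rw [h.card_U, h.u_card_perp (d := 1) h3, card_lam]; ring

section
variable [Finite V] (hP : P.ND) (h3 : finrank F V = 3) {K : Subgroup P.Iso} {Y : AddSubgroup V}
  (hK : ∀ g ∈ K, g ∈ P.EG → ∀ y ∈ Y, g • y ∈ Y)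
include hP h3 hK

theorem u3_keyX (hn : K.relIndex P.EG < q ^ 3) (hY : Y ≠ ⊥) : q ^ 3 < Nat.card Y := by
  have : FiniteDimensional F V := Module.Finite.of_finite
  have key : ∀ x ∈ P.sing0 Set.univ, ∀ y ∈ Y, P.B y x ≠ 0 → ∃ a : F, a ≠ 0 ∧ a • x ∈ Y := by
    intro x hx y hy hyx
    obtain ⟨f, h⟩ := hP.exists_hyp hx.2.2 hx.2.1
    obtain ⟨u, hu, hu1⟩ : ∃ u ∈ K ⊓ P.U x, u ≠ 1 := by
      by_contra hn'
      push Not at hn'
      have h1 := relIndex_mul_card K (P.U x)
      have h2 := relIndex_mono_right K h.U_le_EG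
      rw [(Subgroup.eq_bot_iff_forall _).2 hn', Subgroup.card_bot, h.u3_card_U h3] at h1
      have : q ^ 2 * q = q ^ 3 := by ring
      omega
    obtain ⟨w, hw, c, hc, rfl⟩ := h.mem_U_iff.1 hu.2
    have h1 := fun y hy => sub_mem (hK _ hu.1 (eich_mem_EG _ _ _) y hy) hy
    by_cases hw0 : w = 0
    · subst hw0
      refine ⟨-(c * P.B y x), neg_ne_zero.2 (mul_ne_zero ?_ hyx), ?_⟩
      · rintro rfl; exact hu1 (eich_zero x)
      · convert h1 y hy using 1
        rw [hc.eich_smul]; simp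
    · refine ⟨-(P.B y x * P.B w w), neg_ne_zero.2 (mul_ne_zero hyx fun h0 =>
        hw0 (h.u3_aniso hP h3 hw (u_sing_iff.2 h0))), ?_⟩
      convert h1 _ (h1 y hy) using 1
      rw [hc.eich_smul y, hc.eich_smul_of_perp (by simp [hc.perp, h.left.B_self])]
      simp [B_swap_zero hc.perp]
  obtain ⟨y, hy, hy0⟩ := exists_ne_zero_of_ne_bot hY
  obtain ⟨e, he0, he⟩ := u_exists_sing P (by omega)
  obtain ⟨f, h⟩ := hP.exists_hyp he he0
  obtain ⟨x, hx, hyx⟩ := h.exists_sing_ne' hP hy0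
  have hx0 : x ≠ 0 := by rintro rfl; simp at hyx
  obtain ⟨a, ha, hax⟩ := key x ⟨trivial, hx0, hx⟩ y hy hyx
  have h1 : (fun x => F ∙ x) '' P.sing0 Set.univ ⊆ (fun x => F ∙ x) '' {y | y ∈ Y ∧ y ≠ 0} := by
    rintro _ ⟨z, hz, rfl⟩
    obtain ⟨b, hb, hbz⟩ : ∃ b : F, b ≠ 0 ∧ b • z ∈ Y := by
      by_cases h0 : P.B x z = 0
      · obtain ⟨b, rfl⟩ := Submodule.mem_span_singleton.1 (u3_mem_span hP h3 hz.2.2 hz.2.1 hx h0)
        exact ⟨a * b, mul_ne_zero ha (left_ne_zero_of_smul hx0), by rwa [mul_smul]⟩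
      · exact key z hz _ hax (by simp [ha, h0])
    exact ⟨_, ⟨hbz, smul_ne_zero hb hz.2.1⟩,
      Submodule.span_singleton_smul_eq (IsUnit.mk0 b hb) z⟩
  have h2 := (Set.ncard_le_ncard h1).trans (Set.ncard_image_le (Set.toFinite _))
  have h4 := ptcard (F := F) (sing0_univ_closed (P := P))
  rw [u3_sing0 hP h3, u_card hF] at h4
  have h5 := Nat.eq_of_mul_eq_mul_left (by have := two_le_q hF; rw [Nat.sub_pos_iff_lt]; nlinarith)
    h4
  have := ncard_ne_zero_addSubgroup Y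
  omega

theorem u3_keyF (hY : Nat.card Y = q ^ 3) (hB : ∀ x ∈ Y, ∀ y ∈ Y, frobq hF (P.B x y) = P.B x y)
    (hs : ∀ a, frobq hF a = a → ∀ y ∈ Y, a • y ∈ Y) : q ^ 2 * (q + 1) ≤ K.relIndex P.EG := by
  have : FiniteDimensional F V := Module.Finite.of_finite
  have hq := two_le_q hF
  have hker : ∀ Z ≤ Y, ∀ x ∈ Y, Nat.card Z ≤
      Nat.card (Z ⊓ (P.B.flip x).toAddMonoidHom.ker : AddSubgroup V) * q := fun Z hZ x hx =>
    (card_le_ker_mul Z _ (Z := fixA hF) fun y hy => hB y (hZ hy) x hx).trans_eq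
      (by rw [card_fixA])
  by_cases h1 : ∃ x ∈ Y, x ≠ 0 ∧ P.Sing x
  · obtain ⟨x, hx, hx0, hxs⟩ := h1
    obtain ⟨f, h⟩ := hP.exists_hyp hxs hx0
    by_cases h2 : ∃ x ∈ Y, x ≠ 0 ∧ P.Sing x ∧ ∃ y ∈ Y, P.B y x ≠ 0
    · clear! x
      obtain ⟨x, hx, hx0, hxs, y, hy, hyx⟩ := h2
      obtain ⟨f, h⟩ := hP.exists_hyp hxs hx0
      have k1 := index_orbit₂ K P.EG x y (O := P.sing0 Set.univ) (T := {z | z ∈ Y ∧ z ≠ 0})
        (O' := {z | P.B z x = P.B y x ∧ P.QEq z (P.Q y)})
        (T' := {z | z ∈ Y ∧ P.B z x = P.B y x ∧ P.B z z = P.B y y})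
        (fun z hz => u_vTrans hP (by omega) x z hxs hz.2.2 hx0 hz.2.1) (Set.toFinite _)
        (fun g hg hg' => ⟨hK g hg hg' x hx, act_ne_zero g hx0⟩) (fun z hz => by
          obtain ⟨u, hu, huz⟩ := exists_U_smul hxs hyx hz.1 (QEq.self y) hz.2
          exact ⟨u, h.U_le_EG hu, hu.1, huz⟩) (Set.toFinite _)
        fun g hg hg' hgx => ⟨hK g hg hg' y hy, by
          conv_lhs => rw [← hgx, B_smul_smul], B_smul_smul _ _ _⟩
      rw [u3_sing0 hP h3, ← Nat.card_coe_set_eq {z | P.B z x = P.B y x ∧ P.QEq z (P.Q y)},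
        show Nat.card {z | P.B z x = P.B y x ∧ P.QEq z (P.Q y)} = _ from h.card_level hyx _,
        h.u3_card_U h3] at k1
      refine ar_u5a hq k1 ((ncard_ne_zero_addSubgroup Y).le.trans hY.le) ?_
      by_cases h2 : (2 : F) = 0
      · refine le_trans (Set.ncard_le_ncard (t := (fun a : F => y + a • x) '' {a | frobq hF a = a})
          fun z hz => ?_) ((Set.ncard_image_le (Set.toFinite _)).trans (u_ncard_fix hF).le)
        obtain ⟨a, ha⟩ := Submodule.mem_span_singleton.1 (u3_mem_span hP h3 hxs hx0 (y := z - y)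
          (u_sing_iff.2 (by
            simp only [map_sub, LinearMap.sub_apply, hz.2.2, u_swap z y, hB z hz.1 y hy]
            linear_combination (P.B y y - P.B z y) * h2)) (by simp [hz.2.1]))
        refine ⟨a, ?_, by simp [ha]⟩
        have := hB _ (ha ▸ sub_mem hz.1 hy) y hy
        rw [B_smul_left, map_mul, hB x hx y hy] at this
        exact mul_right_cancel₀ (B_swap_ne hyx) this
      · have k2 := card_eq_ker_mul_map Y (P.B.flip x).toAddMonoidHom
        have k3 : q ≤ Nat.card (Y.map (P.B.flip x).toAddMonoidHom) := by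
          refine (card_fixA hF).ge.trans (AddSubgroup.card_le_of_le fun b hb => ?_)
          exact ⟨_, hs (b / P.B y x) (by rw [map_div₀, hb, hB y hy x hx]) y hy, by simp [hyx]⟩
        have k4 := Set.ncard_le_ncard_of_injOn
          (s := {z | z ∈ Y ∧ P.B z x = P.B y x ∧ P.B z z = P.B y y} ×ˢ {a | frobq hF a = a})
          (t := {z | z ∈ Y ∧ (P.B.flip x).toAddMonoidHom z = P.B y x})
          (fun p => p.1 + p.2 • x) (fun p hp => ⟨add_mem hp.1.1 (hs _ hp.2 x hx), by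
            simp [hp.1.2.1, hxs.B_self]⟩) (by
            rintro ⟨z, a⟩ ⟨hz, ha⟩ ⟨z', a'⟩ ⟨hz', ha'⟩ hzz
            have k5 := congrArg (fun v => P.B v v) hzz
            simp only [map_add, LinearMap.add_apply, B_smul_left, B_smul_right, hxs.B_self,
              u_swap z x, u_swap z' x, hz.2.1, hz.2.2, hz'.2.1, hz'.2.2, hB y hy x hx,
              show frobq hF a = a from ha, show frobq hF a' = a' from ha'] at k5
            obtain rfl : a = a' :=
              mul_right_cancel₀ (mul_ne_zero h2 hyx) (by linear_combination k5)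
            rw [show z = z' from add_right_cancel hzz])
        rw [Set.ncard_prod, u_ncard_fix] at k4
        have k6 := (Nat.mul_le_mul_right q (k4.trans (ncard_fiber_le _ _ _))).trans
          ((Nat.mul_le_mul_left _ k3).trans (k2.ge.trans hY.le))
        exact Nat.le_of_mul_le_mul_right (c := q * q) (by linarith) (by positivity)
    · push Not at h2
      obtain ⟨u, hu, hux⟩ : ∃ u ∈ Y, u ∉ F ∙ x := exists_indep_or_le.resolve_right fun hl => by
        have := (AddSubgroup.card_le_of_le hl).trans (card_span_singleton hx0).le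
        rw [hY, u_card hF] at this
        exact absurd (Nat.pow_le_pow_iff_right (by omega) |>.1 this) (by omega)
      have hux' := h2 x hx hx0 hxs u hu
      have hd := Hyp.eq_of_perp (f := f) hux'
      have hW := h.hproj_mem u
      generalize P.hproj x f u = v, P.B u f = b at hd hW
      have hW' := mem_perp_pair.1 hW
      have hv0 : v ≠ 0 := by
        rintro rfl
        exact hux (Submodule.mem_span_singleton.2 ⟨b, by rw [hd, zero_add]⟩)
      have hvs : ¬ P.Sing v := fun h0 => hv0 (h.u3_aniso hP h3 hW h0)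
      have hvv := mt u_sing_iff.2 hvs
      have k1 := sing_index hP u_rich K hxs hx0 (span_closed x) fun g hg hg' =>
        ⟨u3_mem_span hP h3 hxs hx0 (hxs.act g) (B_swap_zero (h2 _ (hK g hg hg' x hx)
          (act_ne_zero g hx0) (hxs.act g) x hx)), act_ne_zero g hx0⟩
      have k2 := index_orbit₁ K (P.pst v ⊓ (P.pst x ⊓ P.EG)) v
        (O := (· • v) '' {μ : F | μ * frobq hF μ = 1}) (T := (· • v) '' {μ : F | μ * μ = 1}) (by
          rintro _ ⟨μ, hμ, rfl⟩
          obtain ⟨t, ht0, ht⟩ := exists_hilbert hF hμ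
          obtain ⟨r, hr, hrv, hr'⟩ := u_exists_qr hP hvs hμ
          have k3 : (h.tor (Units.mk0 t ht0) * r) • v = μ • v := by
            rw [mul_smul, hrv, act_smul, h.tor_of_mem _ hW]
          refine ⟨_, ⟨mem_pst_of_eq hv0 k3, ⟨t, ht0, by
            rw [mul_smul, hr' x (B_swap_zero hW'.1), h.tor_left, Units.val_mk0]⟩,
            u_mem_EG hP ?_⟩, k3⟩
          have hμ0 : μ ≠ 0 := left_ne_zero_of_mul_eq_one hμ
          rw [map_mul, Units.val_mul, h.det_tor, hr, Units.val_mk0, ht]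
          field_simp) (Set.toFinite _) (by
          rintro g hg ⟨⟨μ, -, hμ⟩, ⟨t, -, ht⟩, hg'⟩
          refine ⟨μ, ?_, hμ.symm⟩
          have k3 := hB _ (hK g hg hg' u hu) u hu
          have k4 := B_smul_smul g v v
          rw [hd, smul_add, act_smul, hμ, ht] at k3
          simp only [map_add, LinearMap.add_apply, B_smul_left, B_smul_right, hW'.1,
            B_swap_zero hW'.1, hxs.B_self, mul_zero, add_zero, map_mul, u_fix_B_self] at k3
          rw [hμ, B_smul_left, B_smul_right, mul_right_cancel₀ hvv k3] at k4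
          exact mul_right_cancel₀ hvv (by linear_combination k4))
      rw [Set.ncard_image_of_injective _ (smul_left_injective F hv0), u_ncard_norm_one,
        Set.ncard_image_of_injective _ (smul_left_injective F hv0)] at k2
      rw [u3_sing0 hP h3] at k1
      exact ar_u5b hq k1 ((ncard_span_ne hx0).trans (u_card hF)) (k2.trans (Nat.mul_le_mul
        (relIndex_mono_right _ inf_le_right) (ncard_sq_le 1)))
  · exfalso
    push Not at h1
    have h0 : ∀ Z : AddSubgroup V, q ≤ Nat.card Z → ∃ x ∈ Z, x ≠ 0 := fun Z hZ =>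
      exists_ne_zero_of_card (by omega)
    have hq2 : q ≤ q ^ 2 := Nat.le_self_pow (by omega) q
    obtain ⟨u, hu, hu0⟩ := h0 Y (hY ▸ Nat.le_self_pow (by omega) q)
    have k1 : q ^ 2 ≤ Nat.card (Y ⊓ (P.B.flip u).toAddMonoidHom.ker : AddSubgroup V) :=
      Nat.le_of_mul_le_mul_right (c := q) (by
        rw [← pow_succ, ← hY]; exact hker Y le_rfl u hu) (by omega)
    obtain ⟨v, hv, hv0⟩ := h0 _ (hq2.trans k1)
    obtain ⟨w, hw, hw0⟩ := h0 _ (Nat.le_of_mul_le_mul_right (c := q)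
      ((sq q).ge.trans (k1.trans (hker _ inf_le_left v hv.1))) (by omega))
    have k2 : P.B v u = 0 := hv.2
    have k3 : P.B w u = 0 := hw.1.2
    have k4 : P.B w v = 0 := hw.2
    have hn : ∀ x ∈ Y, x ≠ 0 → P.B x x ≠ 0 := fun x hx hx0 => mt u_sing_iff.2 (h1 x hx hx0)
    obtain ⟨a, b, ha, hb, hab⟩ := exists_fix_binary hF (u_fix_B_self u) (u_fix_B_self v)
      (u_fix_B_self w) (hn u hu hu0) (hn v hv.1 hv0)
    refine hn (a • u + b • v + w) (add_mem (add_mem (hs a ha u hu) (hs b hb v hv.1)) hw.1.1)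
      (fun h0 => hn w hw.1.1 hw0 ?_) ?_
    · simpa [k3, k4] using congrArg (P.B w) h0
    · simp only [map_add, LinearMap.add_apply, B_smul_left, B_smul_right, k2, k3, k4,
        B_swap_zero k2, B_swap_zero k3, B_swap_zero k4, ha, hb]
      linear_combination hab

end

omit [Fintype F] in
theorem Hyp.card_comap {τ : F →+* F} {π : FP F τ} {P : PQ π V} {e f : V} (h : P.Hyp e f)
    (H : Subgroup P.Iso) :
    Nat.card ((h.Yv H).comap (P.perp {e, f}).subtype.toAddMonoidHom) = Nat.card (h.Yv H) :=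
  Nat.card_congr ⟨fun x => ⟨x.1, x.2⟩, fun y => ⟨⟨y, y.2.2⟩, y.2⟩, fun _ => rfl, fun _ => rfl⟩

omit [Fintype F] in
theorem Hyp.comap_Yv_stab {τ : F →+* F} {π : FP F τ} {P : PQ π V} {e f : V} (h : P.Hyp e f)
    (H : Subgroup P.Iso) : ∀ g ∈ (P.Kc H e).comap h.emb.ext, g ∈ (P.res (P.perp {e, f})).EG →
      ∀ y ∈ (h.Yv H).comap (P.perp {e, f}).subtype.toAddMonoidHom,
        g • y ∈ (h.Yv H).comap (P.perp {e, f}).subtype.toAddMonoidHom := fun g hg _ y hy => by
  have := h.Kc_Yv hg (h.ext_smul_left g) (h.ext_smul_right g) hy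
  exact (h.ext_smul_coe g y).subst this

theorem Hyp.u5_Yv_eq_bot [Finite V] {e f : V} (h : P.Hyp e f) (hP : P.ND) (h5 : finrank F V = 5)
    {H : Subgroup P.Iso} (hn : H.relIndex (P.Gam e) < (q + 1) * (q ^ 3 * q ^ 3))
    (hT : ¬ P.TT H e) : h.Yv H = ⊥ := by
  have : FiniteDimensional F V := Module.Finite.of_finite
  have hq := two_le_q hF
  have h3 : finrank F (P.perp {e, f}) = 3 := by have := h.finrank_perp; omega
  by_contra hY
  obtain ⟨i, j, φ, hj, hy, -, h2, hφ, hD⟩ := h.u_local hP (d := 3) h5 (by omega) hT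
  have hc := (h.relIndex_comap_le (P.Kc H e)).trans (relIndex_Lv_le _ e f)
  have h1 : q ^ 3 ≤ (P.Kc H e).relIndex (P.cst e ⊓ P.Gam e) := by
    by_contra hlt
    have := u3_keyX (h.emb.nd hP) h3 (h.comap_Yv_stab H) (by omega) fun h0 => hY (by
      rw [← AddSubgroup.card_eq_one, ← h.card_comap, h0, AddSubgroup.card_bot])
    rw [h.card_comap] at this
    omega
  obtain ⟨k1, k2, k3⟩ := ar_u5c hq h1 hj (hy.eq_or_lt.imp id fun hlt => two_mul_le_of_dvd (l := 2)
    (card_addSubgroup_dvd (F := F) _) (by rw [u_card hF, ← pow_mul]; exact pow_dvd_pow q (by omega))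
    hlt) hφ (h2 ▸ hn)
  have hD0 := (hD.resolve_right (by omega)).1
  have hB : ∀ x ∈ h.Yv H, ∀ y ∈ h.Yv H, frobq hF (P.B x y) = P.B x y := fun x hx y hy => by
    have := comm_mem_Dv h.left hx.1 hy.1
    rwa [hD0, AddSubgroup.mem_bot, sub_eq_zero, u_swap x y] at this
  have := u3_keyF (h.emb.nd hP) h3 (h.comap_Yv_stab H) ((h.card_comap H).trans k1)
    (fun x hx y hy => hB x hx y hy) fun a ha y hy => h.mem_Yv_of_card hP u_hmin
      (mt (TT_iff h.left).2 hT) (by rw [k1, h.u_card_perp (d := 3) h5]) (a • y).2 fun z hz => by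
        have := hB z hz y hy
        change P.B z (a • (y : V)) - P.B (a • (y : V)) z ∈ _
        rw [B_smul_left, B_smul_right, ha, u_swap z y, this, sub_self]
        exact zero_mem _
  omega

end PQ

end Cfsg.Agent.Polar
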