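import Cfsg.Agent.Polar.QuadOrbit

/-!
# Characters of the Siegel radical of the symplectic group
-/

set_option autoImplicit false

open Module

namespace Cfsg.Agent.Polar

open Cfsg.Agent.Forms

variable {F : Type*} [Field F]
variable {V : Type*} [AddCommGroup V] [Module F V]
variable {K : Type*} [Field K] {M : Type*} [AddCommGroup M] [Module K M]

namespace PQ

variable {P : PQ (spFP F) V}

theorem sp_transvec_add {x y : V} (h : P.B y x = 0) (c : F) :
    P.eich (x + y) 0 c = P.eich x (c • y) c * P.eich y 0 c := iso_ext fun v => by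
  rw [mul_smul, (sp_eOk (e := x + y) (w := 0) (by simp) c).eich_smul,
    (sp_eOk (e := y) (w := 0) (by simp) c).eich_smul,
    (sp_eOk (e := x) (w := c • y) (by simp [h]) c).eich_smul]
  simp only [map_add, map_sub, LinearMap.add_apply, LinearMap.sub_apply, B_smul_left,
    B_smul_right, map_zero, h, sp_B_self, spFP_eps, RingHom.id_apply, LinearMap.zero_apply]
  module

theorem sp_exists_iso_of_totSing [FiniteDimensional F V] (hP : P.ND) {X : Submodule F V}
    (hX : P.TotSing X) (γ : X →ₗ[F] X) (hγ : Function.Injective γ) :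
    ∃ g : P.Iso, ∀ x : X, g • (x : V) = γ x := by
  obtain ⟨φ, hφ⟩ := LinearMap.exists_extend (X.subtype ∘ₗ γ)
  have h1 : ∀ x : X, φ x = γ x := fun x => LinearMap.congr_fun hφ x
  obtain ⟨g, hg, hgx⟩ := witt_alt (B := P.B) hP.rep sp_B_self X φ (fun x hx h0 => by
    rw [h1 ⟨x, hx⟩] at h0
    exact congrArg Subtype.val ((injective_iff_map_eq_zero γ).1 hγ _ (Subtype.ext h0)))
    (fun x hx y hy => by
      rw [h1 ⟨x, hx⟩, h1 ⟨y, hy⟩, hX.perp _ (γ _).2 _ (γ _).2, hX.perp x hx y hy])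
  obtain ⟨k, hk⟩ := exists_iso hP g hg fun _ => trivial
  exact ⟨k, fun x => by rw [hk, hgx x x.2, h1]⟩

variable {ρ : Representation K P.EG M}

theorem sp_exists_quad [Finite F] {X : Submodule F V} (hX : P.TotSing X) {ψ : AddChar F K}
    (hψ : ψ ≠ 1) {v : M} (hv0 : v ≠ 0) {χ : X → X → F → K}
    (hv : ∀ (x y : X) c, ρ (P.ee x y c) v = χ x y c • v) :
    ∃ Q : QuadraticForm F X, (∀ x c, χ x 0 c = ψ (Q x * c)) ∧ ∀ x y, χ x y 0 = ψ (pol Q x y) := by
  have hok : ∀ (x y : X) c, P.EOk x y c := fun x y c => sp_eOk (hX.perp _ y.2 _ x.2) c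
  have hmul : ∀ (x y z : X) c d, χ x (y + z) (c + d) = χ x y c * χ x z d := fun x y z c d => by
    apply smul_left_injective K hv0
    have h1 := (hok x y c).ee_mul (hok x z d)
    rw [hX.perp _ z.2 _ y.2, add_zero] at h1
    change χ x (y + z) (c + d) • v = (χ x y c * χ x z d) • v
    rw [← hv, Submodule.coe_add, ← h1, map_mul, Module.End.mul_apply, hv, map_smul, hv,
      smul_smul, mul_comm]
  have hone : ∀ x : X, χ x 0 0 = 1 := fun x => by
    apply smul_left_injective K hv0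
    change χ x 0 0 • v = (1 : K) • v
    rw [← hv, Submodule.coe_zero, ee_zero, map_one, one_smul, Module.End.one_apply]
  have hsm : ∀ (a : F) (x y : X) c, χ (a • x) y c = χ x (a • y) (a * a * c) := fun a x y c => by
    apply smul_left_injective K hv0
    change χ (a • x) y c • v = χ x (a • y) (a * a * c) • v
    rw [← hv, ← hv]
    congr 2
    exact Subtype.ext ((hok x y c).eich_smul_left a)
  have hadd : ∀ (x y : X) c, χ (x + y) 0 c = χ x (c • y) c * χ y 0 c := fun x y c => by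
    apply smul_left_injective K hv0
    change χ (x + y) 0 c • v = (χ x (c • y) c * χ y 0 c) • v
    have h1 : P.ee (x + y : X) (0 : X) c = P.ee x (c • y : X) c * P.ee y (0 : X) c :=
      Subtype.ext (sp_transvec_add (hX.perp _ y.2 _ x.2) c)
    rw [← hv, h1, map_mul, Module.End.mul_apply, hv, map_smul, hv, smul_smul, mul_comm]
  choose Q hQ using fun x : X => exists_eq_mulShift hψ
    { toFun := χ x 0, map_zero_eq_one' := hone x
      map_add_eq_mul' := fun c d => by rw [← hmul, add_zero] }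
  simp only [AddChar.coe_mk] at hQ
  have hpol : ∀ (x y : X) c, χ x (c • y) 0 = ψ (QuadraticMap.polar Q x y * c) := fun x y c => by
    have h1 := hadd x y c
    have h2 := hmul x (c • y) 0 0 c
    rw [add_zero, zero_add] at h2
    rw [h2, hQ, hQ, hQ] at h1
    have h3 : ∀ a, ψ a ≠ 0 := fun a h0 => by
      have := AddChar.map_add_eq_mul ψ a (-a)
      rw [h0, zero_mul, add_neg_cancel, AddChar.map_zero_eq_one] at this
      exact one_ne_zero this
    apply mul_right_cancel₀ (h3 (Q x * c))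
    apply mul_right_cancel₀ (h3 (Q y * c))
    rw [← h1, ← AddChar.map_add_eq_mul, ← AddChar.map_add_eq_mul, QuadraticMap.polar]
    congr 1
    ring
  refine ⟨QuadraticMap.ofPolar Q (fun a x => eq_of_addChar_mul hψ fun c => ?_)
    (fun x x' y => eq_of_addChar_mul hψ fun c => ?_)
    (fun a x y => eq_of_addChar_mul hψ fun c => ?_), hQ, fun x y => ?_⟩
  · rw [← hQ, hsm, smul_zero, hQ, smul_eq_mul]
    congr 1
    ring
  · rw [QuadraticMap.polar_comm Q (x + x'), QuadraticMap.polar_comm Q x,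
      QuadraticMap.polar_comm Q x', add_mul, AddChar.map_add_eq_mul, ← hpol, ← hpol, ← hpol,
      ← hmul, smul_add, add_zero]
  · rw [← hpol, hsm, mul_zero, smul_smul, hpol, smul_eq_mul]
    congr 1
    ring
  · have := hpol x y 1
    rwa [one_smul, mul_one] at this

theorem sp_rep_bound_two [Finite F] [FiniteDimensional F V] [FiniteDimensional K M] (hP : P.ND)
    {X : Submodule F V} (hX : P.TotSing X) {ψ : AddChar F K} (hψ : ψ ≠ 1)
    {Q₀ : QuadraticForm F X} {v₀ : M} (hv0 : v₀ ≠ 0)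
    (hv : ∀ (x : X) c, ρ (P.ee x 0 c) v₀ = ψ (Q₀ x * c) • v₀) {x y : X}
    (h : pol Q₀ x x * pol Q₀ y y - pol Q₀ x y * pol Q₀ x y ≠ 0) :
    (Nat.card F ^ finrank F X - 1) * (Nat.card F ^ finrank F X - Nat.card F) ≤
      2 * (Nat.card F + 1) * finrank K M := by
  classical
  let E : Set (QuadraticForm F X) :=
    {Q | ∃ v, v ≠ 0 ∧ ∀ (x : X) c, ρ (P.ee x 0 c) v = ψ (Q x * c) • v}
  let ι : QuadraticForm F X → X × F → K := fun Q p => ψ (Q p.1 * p.2)
  have hι : Function.Injective ι := fun Q Q' hQ => QuadraticMap.ext fun x =>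
    eq_of_addChar_mul hψ fun c => congrFun hQ (x, c)
  have hfin : E.Finite := by
    refine Set.Finite.of_finite_image (f := ι) ?_ hι.injOn
    refine (finite_eigen fun p : X × F => ρ (P.ee p.1 0 p.2)).subset ?_
    rintro _ ⟨Q, ⟨w, hw, hQ⟩, rfl⟩
    exact ⟨w, hw, fun p => hQ p.1 p.2⟩
  have h2 := quad_orbit_bound hfin.toFinset (fun Q hQ γ hγ => by
    rw [Set.Finite.mem_toFinset] at *
    obtain ⟨w, hw, hQ⟩ := hQ
    obtain ⟨g, hg⟩ := sp_exists_iso_of_totSing hP hX γ hγ
    let g' : P.EG := ⟨g, by rw [sp_EG_eq_top hP]; trivial⟩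
    refine ⟨ρ g'⁻¹ w, rep_ne_zero _ hw, fun x c => ?_⟩
    have h1 := (sp_eOk (P := P) (e := x) (w := 0) (by simp) c).conj_ee g'
    rw [smul_zero, hg] at h1
    rw [QuadraticMap.comp_apply, ← map_smul, ← hQ, ← h1, ← Module.End.mul_apply,
      ← Module.End.mul_apply, ← map_mul, ← map_mul]
    congr 2
    group) (hfin.mem_toFinset.2 ⟨v₀, hv0, hv⟩) h
  have h3 := card_mul_le_finrank (T := Unit) (fun p : X × F => ρ (P.ee p.1 0 p.2))
    (hfin.toFinset.image ι) fun χ hχ => by
      obtain ⟨Q, hQ, rfl⟩ := Finset.mem_image.1 hχ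
      obtain ⟨w, hw, hQ⟩ := hfin.mem_toFinset.1 hQ
      exact ⟨fun _ => w, linearIndependent_unique_iff.2 hw, fun _ p => hQ p.1 p.2⟩
  rw [Finset.card_image_of_injective _ hι, Fintype.card_unit, mul_one] at h3
  exact h2.trans (Nat.mul_le_mul_left _ h3)

theorem sp_exists_eigen [IsAlgClosed K] [FiniteDimensional K M] (hK : (ringChar F : K) ≠ 0)
    {X : Submodule F V} (hX : P.TotSing X) (N : Submodule K M)
    (hN : ∀ (x y : X) c, ∀ v ∈ N, ρ (P.ee x y c) v ∈ N) {x y : X} {c : F}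
    (h1 : ∃ v ∈ N, ρ (P.ee x y c) v ≠ v) :
    ∃ v ∈ N, v ≠ 0 ∧ ∃ χ : X → X → F → K, χ x y c ≠ 1 ∧
      ∀ (x y : X) c, ρ (P.ee x y c) v = χ x y c • v := by
  have hok : ∀ (x y : X) c, P.EOk x y c := fun x y c => sp_eOk (hX.perp _ y.2 _ x.2) c
  obtain ⟨v, hv, hv0, χ, hχ1, hχ⟩ := exists_eigen_ne_one
    (fun p : X × X × F => ρ (P.ee p.1 p.2.1 p.2.2)) N (fun p => hN _ _ _) (fun i j v _ => by
      rw [← Module.End.mul_apply, ← Module.End.mul_apply, ← map_mul, ← map_mul,
        hX.commute j.1.2 j.2.1.2 (hok _ _ _) fun v hv =>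
          hX.eich_smul i.1.2 (hok _ _ _) (hX.le_perp i.2.1.2) hv])
    (i₀ := (x, y, c)) hK (by
      rw [← map_pow, (hok _ _ _).ee_pow_char (sp_B_self _), map_one]) h1
  exact ⟨v, hv, hv0, fun x y c => χ (x, y, c), hχ1, fun x y c => hχ (x, y, c)⟩

/-- The bound for symplectic groups in characteristic two. -/
theorem sp_rep_bound_even [Finite F] [FiniteDimensional F V] (hP : P.ND)
    (h2 : (2 : F) = 0) {m : ℕ} (hm : finrank F V = 2 * m) (hm2 : 2 ≤ m) [IsAlgClosed K]
    [FiniteDimensional K M] (hK : (ringChar F : K) ≠ 0) (ρ : Representation K P.EG M)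
    (h : ∃ g, ρ g ≠ 1) :
    (Nat.card F ^ m - 1) * (Nat.card F ^ m - Nat.card F) ≤ 2 * (Nat.card F + 1) * finrank K M := by
  obtain ⟨e, w, hok, h1⟩ := exists_long_ne_one
    ((sp_LG_eq_top hP (by omega)).trans (sp_EG_eq_top hP).symm) h
  obtain ⟨X, hX, heX, hXm⟩ := exists_totSing hP sp_iso (k := m) (by omega)
    hok.totSing_span (le_trans (by
      classical
      have := (finrank_span_finset_le_card (R := F) ({e, w} : Finset V)).trans Finset.card_le_two
      rwa [Set.finrank, Finset.coe_pair] at this) hm2)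
  have he : e ∈ X := heX (Submodule.subset_span (by simp))
  have hw : w ∈ X := heX (Submodule.subset_span (by simp))
  obtain ⟨v, -, hv0, χ, hχ1, hχ⟩ := sp_exists_eigen (ρ := ρ) hK hX ⊤ (fun _ _ _ _ _ => trivial)
    (x := ⟨e, he⟩) (y := ⟨w, hw⟩) (c := 0) (by
      by_contra hc
      push Not at hc
      exact h1 (LinearMap.ext fun v => hc v trivial))
  have hβ := bichar_of_mem (β := fun x y => χ x y 0) hX (fun x y => hχ x y 0) hv0
  have hψ : hβ.chr ⟨e, he⟩ ⟨w, hw⟩ ≠ 1 := fun h => hχ1 (by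
    have := DFunLike.congr_fun h 1
    rwa [hβ.chr_apply, one_smul] at this)
  obtain ⟨Q, hQ1, hQ2⟩ := sp_exists_quad hX hψ hv0 hχ
  rw [← hXm]
  refine sp_rep_bound_two (ρ := ρ) hP hX hψ (Q₀ := Q) hv0 (fun x c => by rw [← hQ1, ← hχ]; rfl)
    (x := ⟨e, he⟩) (y := ⟨w, hw⟩) ?_
  rw [polar_self', h2, zero_mul, zero_mul, zero_sub, neg_ne_zero, mul_self_ne_zero]
  intro h0
  rw [hQ2, h0, AddChar.map_zero_eq_one] at hχ1
  exact hχ1 rfl

end PQ

end Cfsg.Agent.Polar
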